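import Mathlib
import Cfsg.Agent.Fus.MxMain
import Cfsg.Agent.Fus.Normal
import Cfsg.Agent.Fus.Transfer
import Cfsg.Agent.Fus.EssTools
import Cfsg.Agent.G2T.Model
import Cfsg.Agent.Inv.WrSub

/-!
Definitions for fusion systems with a weakly closed generalized quaternion subgroup `K`.
-/

set_option autoImplicit false

namespace Cfsg.Agent.WQ

open Subgroup Cfsg.FusionSystem Cfsg.Agent.Fus Cfsg.Agent.Inv.Fz Cfsg.Agent.G2T

variable {Ω : Type*} [Group Ω] {S : Subgroup Ω} {k : ℕ}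

/-- The centralizer in `S` of the element `t`. -/
def CS (S : Subgroup Ω) (t : Ω) : Subgroup Ω := centralizerIn S (zpowers t)

theorem mem_CS {t x : Ω} : x ∈ CS S t ↔ x ∈ S ∧ t * x = x * t := by
  rw [CS, mem_centralizerIn]
  refine and_congr_right fun _ => ⟨fun h => h t (mem_zpowers t), fun h y hy => ?_⟩
  obtain ⟨n, rfl⟩ := mem_zpowers_iff.1 hy
  exact ((show Commute t x from h).zpow_left n).eq

theorem CS_le {t : Ω} : CS S t ≤ S := centralizerIn_le

theorem self_mem_CS {t : Ω} (h : t ∈ S) : t ∈ CS S t := mem_CS.2 ⟨h, rfl⟩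

/-- `K` is generalized quaternion of order `2^(k+3) ≥ 16` with coordinates `r`, `s` and involution
`z`, weakly closed in `F`, and preserved by all maps fixing an involution that centralizes `K`. -/
structure Hy (F : FusionSystem S) (K : Subgroup Ω) (k : ℕ) (r s : R k → Ω) (z : Ω) : Prop where
  sat : F.IsSaturated 2
  pg : IsPGroup 2 S
  one_le : 1 ≤ k
  mc : Mc K (k + 1) (-1) (hf k) r s
  hz : r (hf k) = z
  le : K ≤ S
  wc : ∀ f, F.Mor K f → ∀ x ∈ K, f x ∈ K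
  sc : ∀ y ∈ S, y * y = 1 → y ≠ 1 → (∀ x ∈ K, y * x = x * y) →
    ∀ P f, F.Mor P f → y ∈ P → f y = y → ∀ x ∈ P, x ∈ K → f x ∈ K

/-- `g` acts on `K` by `r i ↦ r (a i)`, `s i ↦ s (a i + b)`. -/
def Act (r s : R k → Ω) (g : Ω) (a b : R k) : Prop :=
  (∀ i, g * r i * g⁻¹ = r (a * i)) ∧ ∀ i, g * s i * g⁻¹ = s (a * i + b)

/-- `t` acts on `K` with centralizer `⟨z⟩`. -/
def TI (r s : R k → Ω) (t : Ω) : Prop := ∃ b, ¬ Ev b ∧ Act r s t (-1) b

/-- `t` is conjugate to `z` in `F`. -/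
def Cj (F : FusionSystem S) (z t : Ω) : Prop := ∃ P f, F.Mor P f ∧ t ∈ P ∧ f t = z

/-- The part in `C_S(t)` of the conjugate of `K` with involution `t`. -/
def Rt (F : FusionSystem S) (K : Subgroup Ω) (z t : Ω) : Subgroup Ω :=
  closure {x | ∃ P f, F.Mor P f ∧ t ∈ P ∧ x ∈ P ∧ f t = z ∧ f x ∈ K}

/-- A conjugate `t ≠ z` of `z` with `⟨z, t⟩` fully centralized. -/
structure Pr (F : FusionSystem S) (z t : Ω) : Prop where
  cj : Cj F z t
  ne : t ≠ z
  fc : F.IsFullyCentralized (zpowers z ⊔ zpowers t)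

/-- The wreathed subgroup `W = K ⟨u 1 0⟩` built from a pair `z`, `t = u hf 0`. -/
structure Bd (F : FusionSystem S) (K : Subgroup Ω) (k : ℕ) (r s : R k → Ω) (z : Ω)
    (W : Subgroup Ω) (u w : R k → R k → Ω) : Prop where
  hy : Hy F K k r s z
  wr : Wr W (k + 1) u w
  le : W ≤ S
  hr : ∀ i, r i = u i (-i)
  hs : ∀ i, s i = w i (hf k - i)
  pr : Pr F z (u (hf k) 0)
  rt : Rt F K z (u (hf k) 0) = zpowers (u 1 0)

/-- Membership in `CC`. -/
def InCC : GS k → Prop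
  | .o _ _ => True
  | .u _ _ => True
  | _ => False

/-- The centralizer `T ⟨u⟩` of `a0` in `GS k`. -/
def CC (k : ℕ) : Subgroup (GS k) where
  carrier := {g | InCC g}
  one_mem' := trivial
  mul_mem' := by rintro (_ | _ | _ | _) (_ | _ | _ | _) h h' <;> trivial
  inv_mem' := by rintro (_ | _ | _ | _) h <;> trivial

@[simp] theorem o_mem_CC {x y : R k} : GS.o x y ∈ CC k := trivial
@[simp] theorem u_mem_CC {x y : R k} : GS.u x y ∈ CC k := trivial
@[simp] theorem t_mem_CC {x y : R k} : GS.t x y ∉ CC k := id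
@[simp] theorem v_mem_CC {x y : R k} : GS.v x y ∉ CC k := id

theorem mem_CC {g : GS k} : g ∈ CC k ↔ ∃ x y, g = GS.o x y ∨ g = GS.u x y := by
  rcases g with ⟨x, y⟩ | ⟨x, y⟩ | ⟨x, y⟩ | ⟨x, y⟩ <;> simp

instance : (CC k).Normal := ⟨by
  rintro (_ | _ | _ | _) h (_ | _ | _ | _) <;> simp at h ⊢⟩

/-- The properties that determine the fusion system of `G₂(q)` on `GS k`. -/
structure GF (F : FusionSystem (⊤ : Subgroup (GS k))) : Prop where
  sat : F.IsSaturated 2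
  sc : ∀ P f, F.Mor P f → GS.z k ∈ P → f (GS.z k) = GS.z k →
    ∀ x ∈ P, x ∈ GS.Q2 k → f x ∈ GS.Q2 k
  al : ∃ f, F.Mor (CC k) f ∧ (∀ x y, f (GS.o x y) = GS.o y (-x - y)) ∧ f (GS.u 0 0) = GS.u 0 0
  foc : F.focalSubgroup = ⊤

/-- The same, through an isomorphism `ι` of `GS k` onto `S`. -/
structure GD (F : FusionSystem S) (ι : GS k →* Ω) : Prop where
  sat : F.IsSaturated 2
  inj : Function.Injective ι
  range : ι.range = S
  sc : ∀ P f, F.Mor P f → ι (GS.z k) ∈ P → f (ι (GS.z k)) = ι (GS.z k) →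
    ∀ x ∈ GS.Q2 k, ι x ∈ P → ∃ y ∈ GS.Q2 k, f (ι x) = ι y
  al : ∃ f, F.Mor ((CC k).map ι) f ∧ (∀ x y, f (ι (GS.o x y)) = ι (GS.o y (-x - y))) ∧
    f (ι (GS.u 0 0)) = ι (GS.u 0 0)
  foc : F.focalSubgroup = S

end Cfsg.Agent.WQ
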