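import Mathlib
import Cfsg.Agent.WQ.Defs

/-!
The action of `S` on the weakly closed quaternion group `K`.
-/

set_option autoImplicit false

namespace Cfsg.Agent.WQ

open Subgroup Cfsg.FusionSystem Cfsg.Agent.Fus Cfsg.Agent.Inv.Fz Cfsg.Agent.G2T

variable {Ω : Type*} [Group Ω] [Finite Ω] {S K W P : Subgroup Ω} {F : FusionSystem S} {k : ℕ}
  {r s : R k → Ω} {u w : R k → R k → Ω} {z t g x y : Ω} {a b : R k} {f : Ω → Ω}

theorem sq_eq_one_cases (h : a * a = 1) : a = 1 ∨ a = -1 ∨ a = 1 + hf k ∨ a = -1 + hf k := by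
  obtain ⟨c, rfl | rfl⟩ := r2_even_or_odd a
  · exact absurd (show 2 * (2 * c * c) = 2 * 0 + 1 by linear_combination h) (even_ne_odd _ _)
  obtain ⟨d, rfl | rfl⟩ := r2_even_or_odd c
  · obtain ⟨e, he⟩ := exists_mul_odd d
    rcases (two_eq_zero (x := 4 * d)).1 (by linear_combination e * h - 8 * d * he) with h1 | h1
    · exact Or.inl (by linear_combination h1)
    · exact Or.inr (Or.inr (Or.inl (by linear_combination h1)))
  · obtain ⟨e, he⟩ := exists_mul_odd d
    rcases (two_eq_zero (x := 4 * d + 4)).1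
      (by linear_combination e * h - 8 * (d + 1) * he) with h1 | h1
    · exact Or.inr (Or.inl (by linear_combination h1))
    · exact Or.inr (Or.inr (Or.inr (by linear_combination h1)))

omit [Finite Ω] in
theorem Act.unique (H : Hy F K k r s z) {a' b' : R k} (h : Act r s g a b) (h' : Act r s g a' b') :
    a = a' ∧ b = b' := by
  have h1 := H.mc.r_eq.1 ((h.1 1).symm.trans (h'.1 1))
  have h2 := H.mc.s_eq.1 ((h.2 0).symm.trans (h'.2 0))
  exact ⟨by linear_combination h1, by linear_combination h2⟩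

omit [Finite Ω] in
theorem Act.mul {g' : Ω} {a' b' : R k} (h : Act r s g a b) (h' : Act r s g' a' b') :
    Act r s (g * g') (a * a') (a * b' + b) := by
  have e : ∀ x, g * g' * x * (g * g')⁻¹ = g * (g' * x * g'⁻¹) * g⁻¹ := fun x => by group
  constructor <;> intro i
  · rw [e, h'.1, h.1, mul_assoc]
  · rw [e, h'.2, h.2]; congr 1; ring

omit [Finite Ω] in
theorem act_one : Act r s 1 1 0 := ⟨fun i => by simp, fun i => by simp⟩

omit [Finite Ω] in
theorem Act.inv {a' : R k} (h : Act r s g a b) (ha : a * a' = 1) :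
    Act r s g⁻¹ a' (-(a' * b)) := by
  constructor <;> intro i
  · have := h.1 (a' * i)
    rw [← mul_assoc, ha, one_mul] at this
    rw [← this]; group
  · have := h.2 (a' * i + -(a' * b))
    rw [show a * (a' * i + -(a' * b)) + b = i by linear_combination (i - b) * ha] at this
    rw [← this]; group

omit [Finite Ω] in
theorem Act.pow_of_one (h : Act r s g 1 b) (n : ℕ) : Act r s (g ^ n) 1 (n * b) := by
  induction n with
  | zero => simpa using act_one
  | succ n ih =>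
    have := ih.mul h
    rw [pow_succ]; convert this using 1 <;> push_cast <;> ring

omit [Finite Ω] in
theorem Act.not_ev (H : Hy F K k r s z) (h : Act r s g a b) : ¬ Ev a := fun e => by
  have := h.1 (hf k)
  rw [mul_comm a, show hf k * a = 0 from e, H.mc.r_zero, conj_eq_one_iff, H.mc.r_eq_one] at this
  exact hf_ne this

omit [Finite Ω] in
theorem Act.isUnit (H : Hy F K k r s z) (h : Act r s g a b) : IsUnit a := by
  obtain ⟨c, rfl⟩ := not_ev_iff.1 (h.not_ev H)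
  exact isUnit_odd c

omit [Finite Ω] in
theorem Act.r_comm_iff (H : Hy F K k r s z) (h : Act r s g a b) {i : R k} :
    g * r i = r i * g ↔ a * i = i := by
  rw [← H.mc.r_eq, ← h.1, mul_inv_eq_iff_eq_mul]

omit [Finite Ω] in
theorem Act.s_comm_iff (H : Hy F K k r s z) (h : Act r s g a b) {i : R k} :
    g * s i = s i * g ↔ a * i + b = i := by
  rw [← H.mc.s_eq, ← h.2, mul_inv_eq_iff_eq_mul]

omit [Finite Ω] in
/-- Relations for an element with `g * g = 1`. -/
theorem Act.of_sq (H : Hy F K k r s z) (h : Act r s g a b) (h2 : g * g = 1) :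
    a * a = 1 ∧ a * b + b = 0 := (h.mul h).unique H (h2 ▸ act_one)

namespace Hy

variable (H : Hy F K k r s z)
include H

omit [Finite Ω] in
theorem act_r (j : R k) : Act r s (r j) 1 (2 * j) :=
  ⟨fun i => by rw [H.mc.conj_rr, one_mul], fun i => by rw [H.mc.conj_rs]; congr 1; ring⟩

omit [Finite Ω] in
theorem act_s (j : R k) : Act r s (s j) (-1) (2 * j) :=
  ⟨fun i => H.mc.conj_sr j i, fun i => by rw [H.mc.conj_ss]; congr 1; ring⟩

omit [Finite Ω] in
theorem act_iff_comm : Act r s g 1 0 ↔ ∀ x ∈ K, g * x = x * g := by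
  refine ⟨fun h x hx => ?_, fun h => ⟨fun i => ?_, fun i => ?_⟩⟩
  · obtain ⟨i, rfl | rfl⟩ := H.mc.cases hx
    exacts [(h.r_comm_iff H).2 (one_mul i), (h.s_comm_iff H).2 (by ring)]
  · rw [h _ (H.mc.r_mem i), mul_inv_cancel_right, one_mul]
  · rw [h _ (H.mc.s_mem i), mul_inv_cancel_right, one_mul, add_zero]

omit [Finite Ω] in
theorem z_sq : z * z = 1 := H.hz ▸ H.mc.mxQ.z_sq

omit [Finite Ω] in
theorem z_ne_one : z ≠ 1 := H.hz ▸ H.mc.mxQ.z_ne_one

omit [Finite Ω] in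
theorem z_mem : z ∈ K := H.hz ▸ H.mc.r_mem _

omit [Finite Ω] in
theorem s_sq (i : R k) : s i * s i = z := by
  rw [H.mc.mxQ.s_sq, ← H.hz]; congr 1; ring

omit [Finite Ω] in
theorem r_mm_sq : r (mm k) * r (mm k) = z := by rw [H.mc.rr, ← two_mul, two_mm, H.hz]

omit [Finite Ω] in
theorem eq_z (hx : x ∈ K) (h2 : x * x = 1) (h1 : x ≠ 1) : x = z := by
  rcases H.mc.mxQ.involution_cases hx h2 h1 with e | ⟨j, rfl⟩
  exacts [e.trans H.hz, absurd ((H.s_sq j).symm.trans h2) H.z_ne_one]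

omit [Finite Ω] in
theorem exists_pow_eq_z (hx : x ∈ K) (h1 : x ≠ 1) : ∃ n : ℕ, x ^ n = z := by
  obtain ⟨i, rfl | rfl⟩ := H.mc.cases hx
  · obtain ⟨e, he, c, rfl⟩ := exists_two_pow_mul_unit i
    have he' : e ≤ k + 1 := by
      by_contra hc
      exact h1 (by rw [two_pow_eq_zero_iff.2 (by omega), zero_mul, H.mc.r_zero])
    refine ⟨2 ^ (k + 1 - e), ?_⟩
    rw [H.mc.r_pow, ← H.hz]; congr 1; push_cast
    rw [← mul_assoc, ← pow_add, show k + 1 - e + e = k + 1 by omega]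
    exact hh_mul_odd c
  · exact ⟨2, by rw [sq, H.s_sq]⟩

omit [Finite Ω] in
theorem conj_mem (hg : g ∈ S) (hx : x ∈ K) : g * x * g⁻¹ ∈ K := H.wc _ (F.mor_conj H.le hg) x hx

omit [Finite Ω] in
theorem exists_act (hg : g ∈ S) : ∃ a b, Act r s g a b := by
  have h4 : (4 : R k) ≠ 0 := r2_four_ne_zero (by have := H.one_le; omega)
  obtain ⟨a, ha⟩ : ∃ a, g * r 1 * g⁻¹ = r a := by
    obtain ⟨a, e | e⟩ := H.mc.cases (H.conj_mem hg (H.mc.r_mem 1))
    · exact ⟨a, e⟩
    · have := H.mc.mxQ.s_pow_four a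
      rw [← e, conj_pow, conj_eq_one_iff, H.mc.r_pow, H.mc.r_eq_one] at this
      exact absurd (by simpa using this) h4
  have h1 : ∀ i, g * r i * g⁻¹ = r (a * i) := fun i => by
    obtain ⟨n, rfl⟩ := ZMod.intCast_surjective i
    rw [mul_comm a, ← H.mc.r_zpow, ← ha, conj_zpow, H.mc.r_zpow, mul_one]
  obtain ⟨b, hb⟩ : ∃ b, g * s 0 * g⁻¹ = s b := by
    obtain ⟨b, e | e⟩ := H.mc.cases (H.conj_mem hg (H.mc.s_mem 0))
    · have : g * (r 1 * s 0) * g⁻¹ = g * (s 0 * r 1) * g⁻¹ := by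
        rw [← conj_mul, ← conj_mul, e, ha, H.mc.rr_comm]
      have := H.mc.rs_comm_iff.1 (mul_left_cancel (mul_right_cancel this))
      exact absurd (by linear_combination this) (two_ne_zero' (k := k))
    · exact ⟨b, e⟩
  refine ⟨a, b, h1, fun i => ?_⟩
  rw [show s i = r i * s 0 by rw [H.mc.rs, add_zero], ← conj_mul, h1, hb, H.mc.rs]

omit [Finite Ω] in
theorem z_comm (hg : g ∈ S) : z * g = g * z := by
  obtain ⟨a, b, h⟩ := H.exists_act hg
  obtain ⟨c, rfl⟩ := not_ev_iff.1 (h.not_ev H)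
  rw [← H.hz]
  exact ((h.r_comm_iff H).2 ((mul_comm _ _).trans (hh_mul_odd c))).symm

omit [Finite Ω] in
theorem mem_CS_z (hg : g ∈ S) : z ∈ CS S g := mem_CS.2 ⟨H.le H.z_mem, (H.z_comm hg).symm⟩

omit [Finite Ω] in
/-- Maps fixing `z` preserve `K` in both directions. -/
theorem scz (hf : F.Mor P f) (hz : z ∈ P) (e : f z = z) (hx : x ∈ P) : f x ∈ K ↔ x ∈ K := by
  have h := H.sc z (H.le H.z_mem) H.z_sq H.z_ne_one fun x hx => H.z_comm (H.le hx)
  refine ⟨fun hK => ?_, h P f hf hz e x hx⟩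
  obtain ⟨g, hg, h1, -⟩ := hf.inv
  have := h _ g hg.mor (e ▸ mem_img_of_mem hz) (by rw [← e, h1 z hz, e]) _ (mem_img_of_mem hx) hK
  rwa [h1 x hx] at this

omit [Finite Ω] in
theorem eq_of_TI (h : TI r s t) (hx : x ∈ K) (hc : t * x = x * t) : x = 1 ∨ x = z := by
  obtain ⟨b, hb, h⟩ := h
  obtain ⟨i, rfl | rfl⟩ := H.mc.cases hx
  · rcases (two_eq_zero (x := i)).1 (by linear_combination -(h.r_comm_iff H).1 hc) with rfl | rfl
    exacts [Or.inl H.mc.r_zero, Or.inr H.hz]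
  · exact absurd (ev_iff.2 ⟨i, by linear_combination (h.s_comm_iff H).1 hc⟩) hb

omit [Finite Ω] in
theorem exists_fix_of_not_TI (ht : t ∈ S) (h2 : t * t = 1) (h : ¬ TI r s t) :
    ∃ x ∈ K, x * x = z ∧ t * x = x * t := by
  obtain ⟨a, b, ha⟩ := H.exists_act ht
  obtain ⟨h3, h4⟩ := ha.of_sq H h2
  have hm : hf k * mm k = 0 := ev_mm H.one_le
  rcases sq_eq_one_cases h3 with rfl | rfl | rfl | rfl
  · exact ⟨_, H.mc.r_mem _, H.r_mm_sq, (ha.r_comm_iff H).2 (one_mul _)⟩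
  · obtain ⟨c, rfl⟩ := ev_iff.1 (by_contra fun hb => h ⟨b, hb, ha⟩)
    exact ⟨_, H.mc.s_mem c, H.s_sq c, (ha.s_comm_iff H).2 (by ring)⟩
  · exact ⟨_, H.mc.r_mem _, H.r_mm_sq, (ha.r_comm_iff H).2 (by linear_combination hm)⟩
  · obtain ⟨c, rfl⟩ := (ev_iff (x := b)).1 (show hf k * b = 0 by linear_combination h4)
    refine ⟨_, H.mc.s_mem (c * (1 + mm k)), H.s_sq _, (ha.s_comm_iff H).2 ?_⟩
    linear_combination c * hm - c * two_mm

end Hy

end Cfsg.Agent.WQ
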