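import Mathlib
import Cfsg.Agent.WQ.Act

/-!
Conjugates `t` of the involution `z` of `K` and the subgroups `Rt t`.
-/

set_option autoImplicit false

namespace Cfsg.Agent.WQ

open Subgroup Cfsg.FusionSystem Cfsg.Agent.Fus Cfsg.Agent.Inv.Fz Cfsg.Agent.G2T

variable {Ω : Type*} [Group Ω] [Finite Ω] {S K W P : Subgroup Ω} {F : FusionSystem S} {k : ℕ}
  {r s : R k → Ω} {u w : R k → R k → Ω} {z t g x y : Ω} {a b : R k} {f : Ω → Ω}

omit [Finite Ω] in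
theorem Cj.mem (h : Cj F z t) : t ∈ S := by
  obtain ⟨P, f, hf, ht, -⟩ := h
  exact hf.le ht

omit [Finite Ω] in
theorem Cj.of_map (hf : F.Mor P f) (ht : t ∈ P) (h : Cj F z (f t)) : Cj F z t := by
  obtain ⟨Q, g, hg, hQ, e⟩ := h
  refine ⟨zpowers t, _, hg.comp (hf.mono (zpowers_le.2 ht)) ?_, mem_zpowers t, e⟩
  rintro _ ⟨n, rfl⟩
  exact hf.map_zpow ht n ▸ Q.zpow_mem hQ n

omit [Finite Ω] in
theorem Cj.map (h : Cj F z t) (hf : F.Mor P f) (ht : t ∈ P) : Cj F z (f t) := by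
  obtain ⟨g, hg, h1, -⟩ := hf.inv
  exact Cj.of_map hg.mor (mem_img_of_mem ht) ((h1 t ht).symm ▸ h)

omit [Finite Ω] in
theorem Cj.conj (h : Cj F z t) (hg : g ∈ S) : Cj F z (g * t * g⁻¹) :=
  h.map (F.mor_conj le_rfl hg) h.mem

omit [Finite Ω] in
theorem map_mem_CS (hf : F.Mor P f) (ht : t ∈ P) (hx : x ∈ P) (h : x ∈ CS S t) :
    f x ∈ CS S (f t) := mem_CS.2 ⟨hf.mem hx, (hf.commute_iff ht hx).2 (mem_CS.1 h).2⟩

omit [Finite Ω] in
theorem img_zpowers (hf : F.Mor P f) (ht : t ∈ P) : img f (zpowers t) = zpowers (f t) := by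
  ext y
  rw [hf.mem_img (zpowers_le.2 ht)]
  constructor
  · rintro ⟨_, ⟨n, rfl⟩, rfl⟩
    exact ⟨n, (hf.map_zpow ht n).symm⟩
  · rintro ⟨n, rfl⟩
    exact ⟨_, ⟨n, rfl⟩, hf.map_zpow ht n⟩

namespace Hy

variable (H : Hy F K k r s z)
include H

omit [Finite Ω] in
theorem cj_z : Cj F z z := ⟨S, _, F.mor_id le_rfl, H.le H.z_mem, rfl⟩

omit [Finite Ω] in
theorem cj_sq (h : Cj F z t) : t * t = 1 := by
  obtain ⟨P, f, hf, ht, e⟩ := h
  rw [← hf.eq_one_iff (P.mul_mem ht ht), hf.map_mul ht ht, e, H.z_sq]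

omit [Finite Ω] in
theorem cj_ne_one (h : Cj F z t) : t ≠ 1 := by
  obtain ⟨P, f, hf, ht, e⟩ := h
  rintro rfl
  exact H.z_ne_one (e.symm.trans hf.map_one)

omit [Finite Ω] in
theorem cent_pair (t : Ω) : centralizerIn S (zpowers z ⊔ zpowers t) = CS S t := by
  rw [centralizerIn_sup]
  exact inf_eq_right.2 fun x hx => mem_CS.2 ⟨CS_le hx, H.z_comm (CS_le hx)⟩

omit [Finite Ω] in
theorem pair_le (ht : t ∈ S) : zpowers z ⊔ zpowers t ≤ CS S t :=
  sup_le (zpowers_le.2 (H.mem_CS_z ht)) (zpowers_le.2 (self_mem_CS ht))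

theorem cj_ext (h : Cj F z t) : ∃ f, F.Mor (CS S t) f ∧ f t = z := by
  obtain ⟨P, f, hf, ht, e⟩ := h
  have h1 := hf.iso_img_of_le (zpowers_le.2 ht)
  rw [img_zpowers hf ht, e] at h1
  obtain ⟨g, hg, hg'⟩ := H.sat.extend_centralizerIn H.pg
    (F.isFullyCentralized_of_le_centralizer (zpowers_le.2 (H.le H.z_mem)) fun x hx =>
      centralizerIn_le_centralizer (mem_CS.2 ⟨hx, H.z_comm hx⟩ : x ∈ CS S z)) h1
  exact ⟨g, hg.mono le_sup_right, (hg' t (mem_zpowers t)).trans e⟩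

omit [Finite Ω] in
theorem cj_notMem (h : Cj F z t) (hne : t ≠ z) : t ∉ K :=
  fun ht => hne (H.eq_z ht (H.cj_sq h) (H.cj_ne_one h))

theorem cj_not_act (h : Cj F z t) (hne : t ≠ z) : ¬ Act r s t 1 0 := fun ha => by
  obtain ⟨f, hf, e⟩ := H.cj_ext h
  have hK : K ≤ CS S t := fun x hx => mem_CS.2 ⟨H.le hx, H.act_iff_comm.1 ha x hx⟩
  have hz := hK H.z_mem
  have h1 : f z = z := H.eq_z (H.wc f (hf.mono hK) z H.z_mem)
    (by rw [← hf.map_mul hz hz, H.z_sq, hf.map_one]) (mt (hf.eq_one_iff hz).1 H.z_ne_one)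
  exact hne (hf.inj (self_mem_CS h.mem) hz (e.trans h1.symm))

omit [Finite Ω] in
theorem Rt_indep {Q : Subgroup Ω} {f' : Ω → Ω} (hf : F.Mor P f) (ht : t ∈ P) (e : f t = z)
    (hx : x ∈ P) (hf' : F.Mor Q f') (ht' : t ∈ Q) (e' : f' t = z) (hx' : x ∈ Q) (h : f x ∈ K) :
    f' x ∈ K := by
  obtain ⟨g, hg, h1, -⟩ := (hf.mono (inf_le_left : P ⊓ Q ≤ P)).inv
  have h2 := (H.scz (hf'.comp hg.mor fun y hy => (hg.maps y hy).2)
    (e ▸ mem_img_of_mem (mem_inf.2 ⟨ht, ht'⟩))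
    (by rw [← e, h1 t ⟨ht, ht'⟩, e', e]) (mem_img_of_mem (mem_inf.2 ⟨hx, hx'⟩))).2 h
  rwa [h1 x ⟨hx, hx'⟩] at h2

omit [Finite Ω] in
theorem Rt_le : Rt F K z t ≤ CS S t := by
  refine (closure_le _).2 ?_
  rintro x ⟨P, f, hf, ht, hx, e, h⟩
  exact mem_CS.2 ⟨hf.le hx, (hf.commute_iff ht hx).1 (e ▸ H.z_comm (H.le h))⟩

theorem mem_Rt (hf : F.Mor P f) (ht : t ∈ P) (e : f t = z) (hx : x ∈ P) :
    x ∈ Rt F K z t ↔ f x ∈ K := by
  refine ⟨fun h => ?_, fun h => subset_closure ⟨P, f, hf, ht, hx, e, h⟩⟩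
  obtain ⟨g, hg, e'⟩ := H.cj_ext ⟨P, f, hf, ht, e⟩
  have ht' := self_mem_CS (hf.le ht)
  refine H.Rt_indep hg ht' e' (H.Rt_le h) hf ht e hx (hg.mulOn.mapsTo_closure H.Rt_le ?_ x h)
  rintro y ⟨Q, f', hf', h1, h2, h3, h4⟩
  exact H.Rt_indep hf' h1 h3 h2 hg ht' e' (H.Rt_le (subset_closure ⟨Q, f', hf', h1, h2, h3, h4⟩)) h4

theorem Rt_z : Rt F K z z = K := by
  ext x
  by_cases hx : x ∈ S
  · exact H.mem_Rt (F.mor_id le_rfl) (H.le H.z_mem) rfl hx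
  · exact ⟨fun h => absurd (CS_le (H.Rt_le h)) hx, fun h => absurd (H.le h) hx⟩

omit [Finite Ω] in
theorem self_mem_Rt (h : Cj F z t) : t ∈ Rt F K z t := by
  obtain ⟨P, f, hf, ht, e⟩ := h
  exact subset_closure ⟨P, f, hf, ht, ht, e, e ▸ H.z_mem⟩

theorem map_mem_Rt (h : Cj F z t) (hf : F.Mor P f) (ht : t ∈ P) (hx : x ∈ P) :
    f x ∈ Rt F K z (f t) ↔ x ∈ Rt F K z t := by
  by_cases hc : x ∈ CS S t
  · obtain ⟨g, hg, e⟩ := H.cj_ext (h.map hf ht)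
    have ht' := self_mem_CS h.mem
    rw [H.mem_Rt hg (self_mem_CS (hf.mem ht)) e (map_mem_CS hf ht hx hc),
      H.mem_Rt (hg.comp (hf.mono (inf_le_left : P ⊓ CS S t ≤ P))
        fun y hy => map_mem_CS hf ht hy.1 hy.2) ⟨ht, ht'⟩ e ⟨hx, hc⟩]
  · exact ⟨fun h' => absurd (mem_CS.2 ⟨hf.le hx,
      (hf.commute_iff ht hx).1 (mem_CS.1 (H.Rt_le h')).2⟩) hc, fun h' => absurd (H.Rt_le h') hc⟩

omit [Finite Ω] H in
theorem cj_or (hx : x ∈ Rt F K z t) : Cj F z t ∨ x = 1 := by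
  by_cases h : Cj F z t
  · exact Or.inl h
  · refine Or.inr (mem_bot.1 ((closure_le ⊥).2 ?_ hx))
    rintro y ⟨P, f, hf, ht, -, e, -⟩
    exact absurd ⟨P, f, hf, ht, e⟩ h

theorem conj_mem_Rt (hg : g ∈ CS S t) (hx : x ∈ Rt F K z t) : g * x * g⁻¹ ∈ Rt F K z t := by
  rcases cj_or hx with h | rfl
  · have := (H.map_mem_Rt h (F.mor_conj le_rfl (CS_le hg)) h.mem (CS_le (H.Rt_le hx))).2 hx
    rwa [← (mem_CS.1 hg).2, mul_inv_cancel_right] at this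
  · simp

theorem Rt_pow (hx : x ∈ Rt F K z t) (h1 : x ≠ 1) : ∃ n : ℕ, x ^ n = t := by
  have h := (cj_or hx).resolve_right h1
  obtain ⟨f, hf, e⟩ := H.cj_ext h
  have ht := self_mem_CS h.mem
  have hx' := H.Rt_le hx
  obtain ⟨n, hn⟩ := H.exists_pow_eq_z ((H.mem_Rt hf ht e hx').1 hx) (mt (hf.eq_one_iff hx').1 h1)
  exact ⟨n, hf.inj (pow_mem hx' n) ht (by rw [hf.map_pow hx', hn, e])⟩

theorem Rt_inf (hne : t ≠ z) (hx : x ∈ Rt F K z t) (hK : x ∈ K) : x = 1 := by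
  by_contra h1
  obtain ⟨n, hn⟩ := H.Rt_pow hx h1
  exact H.cj_notMem ((cj_or hx).resolve_right h1) hne (hn ▸ pow_mem hK n)

theorem Rt_comm (hne : t ≠ z) (hx : x ∈ Rt F K z t) (hy : y ∈ K) (hc : t * y = y * t) :
    x * y = y * x := by
  have h1 : x * (y * x⁻¹ * y⁻¹) ∈ Rt F K z t :=
    mul_mem hx (H.conj_mem_Rt (mem_CS.2 ⟨H.le hy, hc⟩) (inv_mem hx))
  have h2 : x * (y * x⁻¹ * y⁻¹) ∈ K := by
    have := mul_mem (H.conj_mem (CS_le (H.Rt_le hx)) hy) (inv_mem hy)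
    simpa only [mul_assoc] using this
  have := H.Rt_inf hne h1 h2
  rw [← mul_inv_eq_one, ← this]; group

/-- A conjugate of `z` that is a square in its `Rt` acts like `r (mm k)`. -/
theorem act_of_sq (h : Cj F z t) (hne : t ≠ z) (hx : x ∈ Rt F K z t) (e : x * x = t) :
    Act r s t 1 (hf k) := by
  obtain ⟨a, b, ha⟩ := H.exists_act (CS_le (H.Rt_le hx))
  have ht := e ▸ ha.mul ha
  have h2 := (ht.of_sq H (H.cj_sq h)).1
  obtain ⟨c, rfl⟩ := not_ev_iff.1 (ha.not_ev H)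
  obtain ⟨m, hm⟩ := ev_iff.1 (ev_mm H.one_le)
  have h3 : (2 * c + 1) * (2 * c + 1) * 2 = 2 := by
    rcases sq_eq_one_cases h2 with e | e | e | e
    · rw [e, one_mul]
    · exact absurd ((two_eq_zero (x := 2 * (c * c + c) + 1)).1 (by linear_combination e))
        (not_or.2 ⟨(even_ne_odd 0 _ <| (mul_zero 2).trans ·.symm),
          (even_ne_odd (mm k) _ <| two_mm.trans ·.symm)⟩)
    · rw [e]; linear_combination two_hf
    · exact absurd ((two_eq_zero (x := 2 * (c * c + c - m) + 1)).1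
        (by linear_combination e - two_mm + 2 * hm))
        (not_or.2 ⟨(even_ne_odd 0 _ <| (mul_zero 2).trans ·.symm),
          (even_ne_odd (mm k) _ <| two_mm.trans ·.symm)⟩)
  have h4 := (ha.r_comm_iff H).1
    (H.Rt_comm hne hx (H.mc.r_mem 2) ((ht.r_comm_iff H).2 h3))
  have h5 : (2 * c + 1) * (2 * c + 1) = 1 := by linear_combination (c + 1) * h4
  rw [h5] at ht
  rcases (two_eq_zero (x := (2 * c + 1) * b + b)).1
    (by linear_combination (ht.of_sq H (H.cj_sq h)).2) with e | e <;> rw [e] at ht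
  exacts [absurd ht (H.cj_not_act h hne), ht]

theorem exists_pr (h : Cj F z t) (hne : t ≠ z) :
    ∃ f, F.Mor (CS S t) f ∧ f z = z ∧ Pr F z (f t) := by
  have hV := H.pair_le h.mem
  have ht := self_mem_CS h.mem
  have hz := H.mem_CS_z h.mem
  obtain ⟨V, hc, hV'⟩ := F.exists_isConj_fullyCentralized (hV.trans CS_le)
  obtain ⟨f, hf⟩ := hc.exists_iso
  obtain ⟨g, hg, e⟩ := H.sat.extend_centralizerIn H.pg hV' hf
  replace hg := hg.mono (le_sup_right.trans_eq' (H.cent_pair t))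
  have hi : zpowers (g z) ⊔ zpowers (g t) = V := by
    rw [← img_zpowers hg hz, ← img_zpowers hg ht,
      ← hg.img_sup (zpowers_le.2 hz) (zpowers_le.2 ht), img_congr e, hf.img_eq]
  obtain ⟨g', hg', e'⟩ := H.cj_ext (H.cj_z.map hg hz)
  have hm : ∀ x ∈ CS S t, g x ∈ CS S (g z) := fun x hx =>
    map_mem_CS hg hz hx (mem_CS.2 ⟨CS_le hx, H.z_comm (CS_le hx)⟩)
  have hf' := hg'.comp hg hm
  refine ⟨_, hf', e', h.map hf' ht, fun e => hne (hf'.inj ht hz (e.trans e'.symm)), ?_⟩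
  have := (hV'.iso_centralizerIn hg' (hi ▸ sup_le (zpowers_le.2 (hm z hz)) (zpowers_le.2 (hm t ht)))
    (centralizerIn_anti (hi ▸ le_sup_left))).2
  rwa [← hi, hg'.img_sup (zpowers_le.2 (hm z hz)) (zpowers_le.2 (hm t ht)),
    img_zpowers hg' (hm z hz), img_zpowers hg' (hm t ht), e'] at this

theorem pr_dual (h : Pr F z t) :
    ∃ f, F.Iso (CS S t) (CS S (f z)) f ∧ f t = z ∧ Pr F z (f z) := by
  obtain ⟨f, hf, e⟩ := H.cj_ext h.cj
  have ht := self_mem_CS h.cj.mem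
  have hz := H.mem_CS_z h.cj.mem
  obtain ⟨h1, h2⟩ := h.fc.iso_centralizerIn hf (H.pair_le h.cj.mem) (H.cent_pair t).le
  rw [hf.img_sup (zpowers_le.2 hz) (zpowers_le.2 ht), img_zpowers hf hz, img_zpowers hf ht, e,
    sup_comm (zpowers (f z))] at h1 h2
  rw [H.cent_pair, H.cent_pair] at h1
  exact ⟨f, h1, e, H.cj_z.map hf hz, fun e' => h.ne (hf.inj ht hz (e.trans e'.symm)), h2⟩

/-- Construction of the wreathed subgroup. -/
theorem exists_bd (h : Pr F z t) {x : Ω} (hx : Rt F K z t = zpowers x)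
    (ho : orderOf x = 2 ^ (k + 2)) (ha : Act r s x 1 1) (e : x ^ 2 ^ (k + 1) = t) :
    ∃ W u w, Bd F K k r s z W u w ∧ u (hf k) 0 = t := by
  obtain ⟨ρ, hρ, hinj⟩ := exists_rot ho
  have hxS : x ∈ S := CS_le (H.Rt_le (hx ▸ mem_zpowers x))
  have key : ∀ p : R k → Prop, (∀ n : ℤ, p n) → ∀ i, p i := fun p hp i => by
    obtain ⟨n, rfl⟩ := ZMod.intCast_surjective i
    exact hp n
  have ρρ : ∀ i j, ρ i * ρ j = ρ (i + j) := key _ fun m => key _ fun n => by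
    rw [← Int.cast_add, hρ, hρ, hρ, zpow_add]
  have ρ0 : ρ 0 = 1 := by simpa using hρ 0
  have ρm : ∀ i, ρ i ∈ zpowers x := key _ fun n => hρ n ▸ zpow_mem_zpowers x n
  have ρa : ∀ i, Act r s (ρ i) 1 i := fun i => by
    have := ha.pow_of_one i.val
    rwa [mul_one, ← zpow_natCast, ← hρ, Int.cast_natCast, ZMod.natCast_zmod_val] at this
  have rρ : ∀ i j, r j * ρ i = ρ i * r j := fun i j =>
    (((ρa i).r_comm_iff H).2 (one_mul j)).symm
  have rρ' : ∀ i j g, r j * (ρ i * g) = ρ i * (r j * g) := fun i j g => by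
    rw [← mul_assoc, rρ, mul_assoc]
  have sρ : ∀ i j, s j * ρ i = ρ i * s (j - i) := fun i j => by
    have := (ρa i).2 (j - i)
    rw [one_mul, sub_add_cancel] at this
    rw [← this, inv_mul_cancel_right]
  have sρ' : ∀ i j g, s j * (ρ i * g) = ρ i * (s (j - i) * g) := fun i j g => by
    rw [← mul_assoc, sρ, mul_assoc]
  have ρρ' : ∀ i j g, ρ i * (ρ j * g) = ρ (i + j) * g := fun i j g => by rw [← mul_assoc, ρρ]
  have ρK : ∀ i, ρ i ∈ K → i = 0 := fun i hi =>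
    hinj ((H.Rt_inf h.ne (hx ▸ ρm i) hi).trans ρ0.symm)
  have hsep : ∀ {i j y y'}, y ∈ K → y' ∈ K → ρ i * y = ρ j * y' → i = j ∧ y = y' :=
    fun {i j y y'} hy hy' e => by
      have h1 : ρ (-j + i) = y' * y⁻¹ := by
        rw [← ρρ, eq_mul_inv_iff_mul_eq, mul_assoc, e, ρρ', neg_add_cancel, ρ0, one_mul]
      obtain rfl : i = j := by linear_combination ρK _ (h1 ▸ mul_mem hy' (inv_mem hy))
      exact ⟨rfl, mul_left_cancel e⟩
  let u : R k → R k → Ω := fun a b => ρ (a + b) * r (-b)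
  let w : R k → R k → Ω := fun a b => ρ (a + b + hf k) * s (hf k - b)
  have uu : ∀ a b c d, u a b * u c d = u (a + c) (b + d) := fun a b c d => by
    simp only [u, mul_assoc, rρ', ρρ', H.mc.rr]; congr 2 <;> ring
  have uw : ∀ a b c d, u a b * w c d = w (a + c) (b + d) := fun a b c d => by
    simp only [u, w, mul_assoc, rρ', ρρ', H.mc.rs]; congr 2 <;> ring
  have wu : ∀ a b c d, w a b * u c d = w (a + d) (b + c) := fun a b c d => by
    simp only [u, w, mul_assoc, sρ', ρρ', H.mc.sr]; congr 2 <;> ring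
  have ww : ∀ a b c d, w a b * w c d = u (a + d) (b + c) := fun a b c d => by
    simp only [u, w, mul_assoc, sρ', ρρ', H.mc.ss]; congr 2
    exacts [by linear_combination two_hf, by ring]
  have u0 : u 0 0 = 1 := by simp [u, ρ0, H.mc.r_zero]
  let W : Subgroup Ω :=
    { carrier := {g | (∃ a b, g = u a b) ∨ ∃ a b, g = w a b}
      one_mem' := Or.inl ⟨0, 0, u0.symm⟩
      mul_mem' := by
        rintro _ _ (⟨a, b, rfl⟩ | ⟨a, b, rfl⟩) (⟨c, d, rfl⟩ | ⟨c, d, rfl⟩)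
        exacts [Or.inl ⟨_, _, uu ..⟩, Or.inr ⟨_, _, uw ..⟩, Or.inr ⟨_, _, wu ..⟩,
          Or.inl ⟨_, _, ww ..⟩]
      inv_mem' := by
        rintro _ (⟨a, b, rfl⟩ | ⟨a, b, rfl⟩)
        · exact Or.inl ⟨-a, -b, inv_eq_of_mul_eq_one_right (by rw [uu]; simpa using u0)⟩
        · exact Or.inr ⟨-b, -a, inv_eq_of_mul_eq_one_right (by rw [ww]; simpa using u0)⟩ }
  have ut : u (hf k) 0 = t := by
    have : hf k = ((2 ^ (k + 1) : ℕ) : ℤ) := by push_cast; rfl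
    simp only [u, add_zero, neg_zero, H.mc.r_zero, mul_one]
    rw [this, hρ, zpow_natCast, e]
  have u1 : u 1 0 = x := by simpa [u, H.mc.r_zero] using hρ 1
  refine ⟨W, u, w, ⟨H, ⟨by omega, uu, uw, wu, ww, fun _ => Iff.rfl, fun a b c d e => ?_,
    fun a b c d e => ?_⟩, ?_, fun i => ?_, fun i => ?_, ut ▸ h, by rw [ut, u1, hx]⟩, ut⟩
  · obtain ⟨h1, h2⟩ := hsep (H.mc.r_mem _) (H.mc.r_mem _) e
    have h3 := H.mc.r_eq.1 h2
    exact ⟨by linear_combination h1 + h3, by linear_combination -h3⟩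
  · exact H.mc.r_ne_s _ _ (hsep (H.mc.r_mem _) (H.mc.s_mem _) e).2
  · rintro _ (⟨a, b, rfl⟩ | ⟨a, b, rfl⟩)
    exacts [mul_mem (zpowers_le.2 hxS (ρm _)) (H.le (H.mc.r_mem _)),
      mul_mem (zpowers_le.2 hxS (ρm _)) (H.le (H.mc.s_mem _))]
  · simp [u, ρ0]
  · simp only [w]
    rw [show i + (hf k - i) + hf k = 0 by linear_combination two_hf, ρ0, one_mul, sub_sub_cancel]

theorem pr_cases (h : Pr F z t) :
    TI r s t ∨ ∃ W u w, Bd F K k r s z W u w ∧ u (hf k) 0 = t := by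
  refine or_iff_not_imp_left.2 fun hT => ?_
  obtain ⟨x, hx, h1, h2⟩ := H.exists_fix_of_not_TI h.cj.mem (H.cj_sq h.cj) hT
  obtain ⟨f, hf', e, h'⟩ := H.pr_dual h
  have ht := self_mem_CS h.cj.mem
  have hz := H.mem_CS_z h.cj.mem
  have hx' : x ∈ CS S t := mem_CS.2 ⟨H.le hx, h2⟩
  have ha := H.act_of_sq h'.cj h'.ne ((H.map_mem_Rt H.cj_z hf'.mor hz hx').2 (H.Rt_z.symm ▸ hx))
    (by rw [← hf'.mor.map_mul hx' hx', h1])
  obtain ⟨y, hy, ey⟩ := hf'.surj (r 1)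
    (mem_CS.2 ⟨H.le (H.mc.r_mem 1), (ha.r_comm_iff H).2 (one_mul _)⟩)
  have hR : Rt F K z t = zpowers y := by
    refine le_antisymm (fun p hp => ?_)
      (zpowers_le.2 ((H.mem_Rt hf'.mor ht e hy).2 (ey ▸ H.mc.r_mem 1)))
    have hp' := H.Rt_le hp
    obtain ⟨i, e' | e'⟩ := H.mc.cases ((H.mem_Rt hf'.mor ht e hp').1 hp)
    · obtain ⟨n, rfl⟩ := ZMod.intCast_surjective i
      exact ⟨n, hf'.mor.inj (zpow_mem hy n) hp'
        (by rw [hf'.mor.map_zpow hy, ey, H.mc.r_zpow, mul_one, e'])⟩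
    · have := (ha.s_comm_iff H).1 (e' ▸ (mem_CS.1 (hf'.maps p hp')).2)
      exact absurd (by linear_combination this) (hf_ne (k := k))
  have ho : orderOf y = 2 ^ (k + 2) := by rw [← hf'.mor.orderOf_eq hy, ey, H.mc.orderOf_r_one]
  have hy1 : y ^ 2 ^ (k + 1) = t := hf'.mor.inj (pow_mem hy _) ht (by
    rw [hf'.mor.map_pow hy, ey, H.mc.r_pow, e, ← H.hz, mul_one]; push_cast; rfl)
  have hyR : y ∈ Rt F K z t := hR ▸ mem_zpowers y
  have hat := H.act_of_sq h.cj h.ne (pow_mem hyR (2 ^ k))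
    (by rw [← pow_add, ← two_mul, ← pow_succ', hy1])
  obtain ⟨a, b, hb⟩ := H.exists_act (CS_le hy)
  obtain rfl : a = 1 := by
    simpa using (hb.r_comm_iff H).1
      (H.Rt_comm h.ne hyR (H.mc.r_mem 1) ((hat.r_comm_iff H).2 (one_mul _)))
  have h3 := ((hy1 ▸ hb.pow_of_one (2 ^ (k + 1))).unique H hat).2
  push_cast at h3
  obtain ⟨c, rfl⟩ := hh_mul_eq_hh.1 h3
  obtain ⟨d, hd⟩ := exists_mul_odd c
  obtain ⟨d', rfl | hd'⟩ := r2_even_or_odd d
  · exact absurd (show 2 * ((2 * c + 1) * d') = 2 * 0 + 1 by linear_combination hd)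
      (even_ne_odd _ _)
  have hodd : Odd d.val := by
    by_contra hn
    obtain ⟨m, hm⟩ := Nat.not_odd_iff_even.1 hn
    refine even_ne_odd (m : R k) d' ?_
    rw [← hd', ← ZMod.natCast_zmod_val d, hm]; push_cast; ring
  have hco : (orderOf y).Coprime d.val := by
    rw [ho]; exact (Nat.coprime_two_left.2 hodd).pow_left _
  refine H.exists_bd h (x := y ^ d.val) ?_ (by rw [hco.orderOf_pow, ho]) ?_ ?_
  · rw [hR]
    exact le_antisymm (zpowers_le.2 (mem_zpowers_pow_iff.2 hco.symm))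
      (zpowers_le.2 (npow_mem_zpowers y _))
  · have := hb.pow_of_one d.val
    rwa [ZMod.natCast_zmod_val, mul_comm, hd] at this
  · obtain ⟨m, hm⟩ := hodd
    rw [← pow_mul, mul_comm, pow_mul, hy1, hm, pow_succ, pow_mul, sq, H.cj_sq h.cj, one_pow,
      one_mul]

end Hy

end Cfsg.Agent.WQ
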