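import Mathlib
import Cfsg.Agent.WQ.Pair

/-! The wreathed case: the automorphism of order three of `C_S(a₀)`, the base group is self-centralizing. -/

set_option autoImplicit false
set_option linter.unusedSectionVars false

namespace Cfsg.Agent.WQ

open Subgroup Cfsg.FusionSystem Cfsg.Agent.Fus Cfsg.Agent.Inv.Fz Cfsg.Agent.G2T

variable {Ω : Type*} [Group Ω] [Finite Ω] {S K W P : Subgroup Ω} {F : FusionSystem S} {k : ℕ}
  {r s : R k → Ω} {u w : R k → R k → Ω} {z t g x y : Ω} {a b : R k} {f : Ω → Ω}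

namespace B1

theorem eq_one_of_odd {n : ℕ} (hn : Odd n) (h : a ^ n = 1) : a = 1 := by
  have h1 := orderOf_dvd_of_pow_eq_one (Units.pow_ofPowEqOne h hn.pos.ne')
  have h2 := orderOf_dvd_card (x := Units.ofPowEqOne a n h hn.pos.ne')
  rw [ZMod.card_units_eq_totient, Nat.totient_prime_pow_succ Nat.prime_two, Nat.add_one_sub_one, mul_one] at h2
  exact congrArg Units.val (orderOf_eq_one_iff.1
    (Nat.eq_one_of_dvd_coprimes ((Nat.coprime_two_right.2 hn).pow_right _) h1 h2))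

variable (H : Hy F K k r s z)
include H

theorem swap (h : Act r s t 1 (hf k)) :
    s 0 * t * (s 0)⁻¹ = t * z ∧ ∀ g ∈ CS S t, s 0 * g * (s 0)⁻¹ ∈ CS S t := by
  have sS := H.le (H.mc.s_mem 0)
  have e : s 0 * t * (s 0)⁻¹ = t * z := by
    have h1 := (h.inv (mul_one _)).2 0
    rw [show s 0 * t * (s 0)⁻¹ = t * (t⁻¹ * s 0 * t⁻¹⁻¹ * (s 0)⁻¹) by group, h1, H.mc.s_mul_inv, ← H.hz]
    simp [neg_hf]
  refine ⟨e, fun g hg => ?_⟩
  have h1 := mul_mem (mul_mem sS (CS_le hg)) (inv_mem sS)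
  refine mem_CS.2 ⟨h1, mul_right_cancel (b := z) ?_⟩
  rw [mul_assoc, ← H.z_comm h1, ← mul_assoc, mul_assoc _ t, ← e, conj_mul, conj_mul, (mem_CS.1 hg).2]

theorem eq_r (h : Act r s t 1 (hf k)) (hx : x ∈ K) (hc : x ∈ CS S t) : ∃ i, x = r i := by
  obtain ⟨i, rfl | rfl⟩ := H.mc.cases hx
  · exact ⟨i, rfl⟩
  · exact absurd (by simpa using (h.s_comm_iff H).1 (mem_CS.1 hc).2) hf_ne

theorem act_one_of (hg : g ∈ S) {j : R k} (hj : ¬ Ev j) (c : g * r j = r j * g) : ∃ b, Act r s g 1 b := by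
  obtain ⟨a, b, h⟩ := H.exists_act hg
  obtain ⟨c', rfl⟩ := not_ev_iff.1 hj
  obtain ⟨d, hd⟩ := exists_mul_odd c'
  obtain rfl : a = 1 := by linear_combination d * (h.r_comm_iff H).1 c - (a - 1) * hd
  exact ⟨b, h⟩

theorem comm_s (h : Act r s g 1 b) : s 0 * g * (s 0)⁻¹ = g * r (-b) := by
  have h1 := (h.inv (mul_one _)).2 0
  rw [show s 0 * g * (s 0)⁻¹ = g * (g⁻¹ * s 0 * g⁻¹⁻¹ * (s 0)⁻¹) by group, h1, H.mc.s_mul_inv]
  simp

end B1

open B1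

namespace Bd

variable (B : Bd F K k r s z W u w)
include B

theorem z_eq : z = u (hf k) (hf k) := by
  rw [← B.hy.hz, B.hr, neg_hf]

theorem u_mem_C (x y : R k) : u x y ∈ CS S (u (hf k) 0) :=
  mem_CS.2 ⟨B.le (B.wr.u_mem x y), B.wr.uu_comm ..⟩

theorem act_u (x y : R k) : Act r s (u x y) 1 (x - y) :=
  ⟨fun i => by rw [B.hr, B.hr, B.wr.conj_uu, one_mul], fun i => by
    rw [B.hs, B.hs, B.wr.conj_uw]; congr 1 <;> ring⟩

theorem act_w (x y : R k) : Act r s (w x y) (-1) (x - y + hf k) :=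
  ⟨fun i => by rw [B.hr, B.hr, B.wr.conj_wu]; congr 1 <;> ring, fun i => by
    rw [B.hs, B.hs, B.wr.conj_ww]; congr 1 <;> ring⟩

theorem b1_act : Act r s (u (hf k) 0) 1 (hf k) := by simpa using B.act_u (hf k) 0

theorem b1_su (x y : R k) : s 0 * u x y * (s 0)⁻¹ = u y x := by rw [B.hs, B.wr.conj_wu]

theorem b1_az : u (hf k) 0 * z = u 0 (hf k) := by
  rw [B.z_eq, B.wr.uu, ← two_mul, two_hf, zero_add]

theorem b1_Ra : x ∈ Rt F K z (u (hf k) 0) ↔ ∃ l, x = u l 0 := by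
  simp only [B.rt, B.wr.mem_zpowers_u, mul_one, mul_zero]

theorem b1_Rb : x ∈ Rt F K z (u 0 (hf k)) ↔ ∃ l, x = u 0 l := by
  have sS := B.hy.le (B.hy.mc.s_mem 0)
  have h1 := fun y hy => B.hy.map_mem_Rt (x := y) B.pr.cj (F.mor_conj le_rfl sS) B.pr.cj.mem hy
  simp only [B.b1_su, B.b1_Ra] at h1
  refine ⟨fun h => ?_, ?_⟩
  · obtain ⟨l, e⟩ := (h1 _ (mul_mem (mul_mem (inv_mem sS) (CS_le (B.hy.Rt_le h))) sS)).1 (by simpa [mul_assoc] using h)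
    exact ⟨l, by rw [← B.b1_su, ← e]; group⟩
  · rintro ⟨l, rfl⟩
    exact B.b1_su l 0 ▸ (h1 _ (B.le (B.wr.u_mem l 0))).2 ⟨l, rfl⟩

theorem b1_lin (h : MulOn (CS S (u (hf k) 0)) f) {p q p' q' : R k} (e : f (u 1 0) = u p q) (e' : f (u 0 1) = u p' q')
    (x y : R k) : f (u x y) = u (x * p + y * p') (x * q + y * q') := by
  obtain ⟨m, rfl⟩ := ZMod.natCast_zmod_surjective x
  obtain ⟨n, rfl⟩ := ZMod.natCast_zmod_surjective y
  have : u m n = u 1 0 ^ m * u 0 1 ^ n := by simp [B.wr.u_pow, B.wr.uu]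
  rw [this, h _ (pow_mem (B.u_mem_C ..) _) _ (pow_mem (B.u_mem_C ..) _), h.map_pow (B.u_mem_C ..),
    h.map_pow (B.u_mem_C ..), e, e', B.wr.u_pow, B.wr.u_pow, B.wr.uu]

/-- `C = C_S(u hf 0)` acts on the base group by scalars. -/
theorem scalar (hg : g ∈ CS S (u (hf k) 0)) (h : Act r s g a b) (x y : R k) :
    g * u x y * g⁻¹ = u (a * x) (a * y) := by
  obtain ⟨l, e⟩ := B.b1_Ra.1 (B.hy.conj_mem_Rt hg (B.b1_Ra.2 ⟨1, rfl⟩))
  obtain ⟨m, e'⟩ := B.b1_Rb.1 (B.hy.conj_mem_Rt (mem_CS.2 ⟨CS_le hg, by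
    rw [← B.b1_az, mul_assoc, B.hy.z_comm (CS_le hg), ← mul_assoc, (mem_CS.1 hg).2, mul_assoc]⟩) (B.b1_Rb.2 ⟨1, rfl⟩))
  have h1 := B.b1_lin (f := fun x => g * x * g⁻¹) (fun _ _ _ _ => conj_mul.symm) e e'
  have h2 := h.1 1
  rw [B.hr, B.hr, h1, B.wr.u_eq] at h2
  rw [h1]
  congr 1
  exacts [by linear_combination x * h2.1, by linear_combination -y * h2.2]

theorem b1_gamma : ∃ γ ∈ F.autGroup (CS S (u (hf k) 0)), totA γ z = u (hf k) 0 ∧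
    totA γ (u (hf k) 0) = u 0 (hf k) ∧ ∀ g ∈ S, (∀ x y, g * u x y = u x y * g) → ∃ p q, totA γ g = g * u p q := by
  have H := B.hy
  obtain ⟨f, hf', fa, pr⟩ := H.pr_dual B.pr
  obtain ⟨f', hf'', ff, ff'⟩ := hf'.inv
  have zC := H.mem_CS_z B.pr.cj.mem
  have aC := B.u_mem_C (hf k) 0
  have rC : ∀ i, r i ∈ CS S (u (hf k) 0) := fun i => B.hr i ▸ B.u_mem_C ..
  have sS := H.le (H.mc.s_mem 0)
  have act : Act r s (f z) 1 (hf k) := H.act_of_sq pr.cj pr.ne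
    ((H.map_mem_Rt H.cj_z hf'.mor zC (rC (mm k))).2 (H.Rt_z.symm ▸ H.mc.r_mem _))
    (by rw [← hf'.mor.map_mul (rC _) (rC _), H.r_mm_sq])
  obtain ⟨e1, n1⟩ := swap H act
  obtain ⟨-, n2⟩ := swap H B.b1_act
  have m1 : F.Mor (CS S (u (hf k) 0)) fun x => s 0 * f' (s 0 * f x * (s 0)⁻¹) * (s 0)⁻¹ :=
    (hf''.mor.comp (hf'.mor.conj_comp sS) fun x hx => n1 _ (hf'.maps x hx)).conj_comp sS
  obtain ⟨γ, hγ, e⟩ := (m1.iso_self fun x hx => n2 _ (hf''.maps _ (n1 _ (hf'.maps x hx)))).exists_aut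
  refine ⟨γ, hγ, ?_, ?_, fun g hg c => ?_⟩
  · rw [e z zC, e1, show f z * z = f (z * u (hf k) 0) by rw [hf'.mor.map_mul zC aC, fa], ff _ (mul_mem zC aC),
      H.z_comm B.pr.cj.mem, B.b1_az, B.b1_su]
  · rw [e _ aC, fa, ← H.z_comm sS, mul_inv_cancel_right, ← B.b1_su, ← ff _ aC, fa]
  have gC : g ∈ CS S (u (hf k) 0) := mem_CS.2 ⟨hg, (c ..).symm⟩
  have uC := B.u_mem_C 1 0
  obtain ⟨j, ej⟩ := eq_r H act ((H.mem_Rt hf'.mor aC fa uC).1 (B.b1_Ra.2 ⟨1, rfl⟩)) (hf'.maps _ uC)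
  have hj : ¬ Ev j := fun ev => H.z_ne_one (by
    have : u (hf k) 0 = u 1 0 ^ 2 ^ (k + 1) := by simp [B.wr.u_pow, hh]
    rw [← fa, this, hf'.mor.map_pow uC, ej, H.mc.r_pow, H.mc.r_eq_one, Nat.cast_pow, Nat.cast_ofNat]
    exact ev)
  obtain ⟨b, h1⟩ := act_one_of H (hf'.mor.mem gC) hj (ej ▸ (hf'.mor.commute_iff gC uC).2 (c ..))
  obtain ⟨b', h2⟩ := act_one_of H hg (j := 1) (not_ev_iff.2 ⟨0, by simp⟩) (B.hr 1 ▸ c ..)
  obtain ⟨y, yC, ey⟩ := hf'.surj (r (-b)) (mem_CS.2 ⟨H.le (H.mc.r_mem _), (act.r_comm_iff H).2 (one_mul _)⟩)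
  obtain ⟨l, rfl⟩ := B.b1_Ra.1 ((H.mem_Rt hf'.mor aC fa yC).2 (ey ▸ H.mc.r_mem _))
  refine ⟨-b', b' + l, ?_⟩
  rw [e g gC, comm_s H h1, ← ey, ← hf'.mor.map_mul gC yC, ff _ (mul_mem gC yC), ← conj_mul, comm_s H h2, B.b1_su,
    B.hr, mul_assoc, B.wr.uu, add_zero, neg_neg]

theorem b1_alpha : ∃ α ∈ F.autGroup (CS S (u (hf k) 0)), Odd (orderOf α) ∧
    (∀ x y, totA α (u x y) = u y (-x - y)) ∧
    ∀ g ∈ S, (∀ x y, g * u x y = u x y * g) → ∃ p q, totA α g = g * u p q := by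
  have H := B.hy
  obtain ⟨γ, hγ, e1, e2, hD⟩ := B.b1_gamma
  have zC := H.mem_CS_z B.pr.cj.mem
  have aC := B.u_mem_C (hf k) 0
  have bC := B.u_mem_C 0 (hf k)
  have e3 : totA γ (u 0 (hf k)) = z := by
    rw [← B.b1_az, mulOn_totA γ _ aC _ zC, e1, e2, B.wr.uu, zero_add, add_zero, B.z_eq]
  obtain ⟨n, ho, hn⟩ := exists_pow_coprime 2 γ (k := 3) (by decide)
  obtain ⟨q, rfl⟩ : ∃ q, n = 3 * q + 1 := ⟨n / 3, by unfold Nat.ModEq at hn; omega⟩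
  have h3 : totA (γ ^ (3 * q + 1)) z = u (hf k) 0 ∧ totA (γ ^ (3 * q + 1)) (u (hf k) 0) = u 0 (hf k) ∧
      totA (γ ^ (3 * q + 1)) (u 0 (hf k)) = z := by
    clear ho hn
    induction q with
    | zero => simpa using ⟨e1, e2, e3⟩
    | succ q ih =>
      rw [show 3 * (q + 1) + 1 = 3 * q + 1 + 1 + 1 + 1 by ring, pow_succ γ, pow_succ γ, pow_succ γ]
      simpa only [totA_mul _ _ zC, totA_mul _ _ aC, totA_mul _ _ bC, e1, e2, e3] using ih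
  have hD' : ∀ n, ∀ g ∈ S, (∀ x y, g * u x y = u x y * g) → ∃ p q, totA (γ ^ n) g = g * u p q := fun n => by
    induction n with
    | zero => exact fun g hg c => ⟨0, 0, by rw [pow_zero, totA_one (mem_CS.2 ⟨hg, (c ..).symm⟩), B.wr.u_zero, mul_one]⟩
    | succ n ih =>
      intro g hg c
      have gC : g ∈ CS S (u (hf k) 0) := mem_CS.2 ⟨hg, (c ..).symm⟩
      obtain ⟨p, q, e⟩ := hD g hg c
      obtain ⟨p', q', e'⟩ := ih g hg c
      obtain ⟨p'', q'', e''⟩ := ih _ (B.le (B.wr.u_mem p q)) fun _ _ => B.wr.uu_comm ..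
      exact ⟨_, _, by rw [pow_succ γ, totA_mul _ _ gC, e, mulOn_totA _ _ gC _ (B.u_mem_C ..), e', e'', mul_assoc,
        B.wr.uu, B.wr.uu]⟩
  have hα := pow_mem hγ (3 * q + 1)
  refine ⟨_, hα, Nat.coprime_two_right.1 ho, ?_, hD' _⟩
  generalize γ ^ (3 * q + 1) = α at *
  have m := mor_totA CS_le hα
  have cb : Cj F z (u 0 (hf k)) := h3.2.1 ▸ B.pr.cj.map m aC
  obtain ⟨l, el⟩ := B.b1_Rb.1 (h3.2.1 ▸ (H.map_mem_Rt B.pr.cj m aC (B.u_mem_C 1 0)).2 (B.b1_Ra.2 ⟨1, rfl⟩))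
  obtain ⟨j, ej⟩ := eq_r H B.b1_act (H.Rt_z ▸ h3.2.2 ▸ (H.map_mem_Rt cb m bC (B.u_mem_C 0 1)).2 (B.b1_Rb.2 ⟨1, rfl⟩))
    (totA_mem α (B.u_mem_C 0 1))
  obtain ⟨l', el'⟩ := B.b1_Ra.1 (h3.1 ▸ (H.map_mem_Rt H.cj_z m zC (B.u_mem_C 1 (-1))).2
    (H.Rt_z.symm ▸ B.hr 1 ▸ H.mc.r_mem 1))
  have h1 := B.b1_lin m.mulOn el (ej.trans (B.hr j))
  rw [h1, B.wr.u_eq] at el'
  obtain rfl : l = -j := by linear_combination el'.2
  have h2 : ∀ n, totA ((α * α * α) ^ n) (u 1 0) = u (j ^ (3 * n)) 0 := fun n => by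
    induction n with
    | zero => simpa using totA_one (B.u_mem_C 1 0)
    | succ n ih =>
      rw [pow_succ' (α * α * α), totA_mul _ _ (B.u_mem_C ..), ih, totA_mul _ _ (B.u_mem_C ..), totA_mul _ _ (totA_mem _ (B.u_mem_C ..)),
        h1, h1, h1]
      congr 1 <;> ring
  have h4 := h2 (orderOf α)
  rw [← pow_three', ← pow_mul, mul_comm, pow_mul, pow_orderOf_eq_one, one_pow, totA_one (B.u_mem_C ..), B.wr.u_eq] at h4
  obtain rfl := eq_one_of_odd ((Nat.coprime_two_right.1 ho).mul (by decide)) h4.1.symm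
  intro x y
  rw [h1]
  congr 1 <;> ring

theorem exists_alpha : ∃ α ∈ F.autGroup (CS S (u (hf k) 0)), Odd (orderOf α) ∧
    ∀ x y, totA α (u x y) = u y (-x - y) :=
  B.b1_alpha.imp fun _ h => ⟨h.1, h.2.1, h.2.2.1⟩

theorem b1_step (hg : g ∈ S) (c : ∀ x y, g * u x y = u x y * g) (h2 : ∃ x y, g * g = u x y) : ∃ x y, g = u x y := by
  have H := B.hy
  obtain ⟨α, hα, -, hu, hD⟩ := B.b1_alpha
  have m := mor_totA CS_le hα
  obtain ⟨d, hd⟩ := exists_mul_odd (1 : R k)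
  obtain ⟨p, q, e⟩ := hD g hg c
  have gC : g ∈ CS S (u (hf k) 0) := mem_CS.2 ⟨hg, (c ..).symm⟩
  suffices h : ∃ x y, g * u (p + d * (q - p)) (d * (q - p)) = u x y by
    obtain ⟨x, y, h⟩ := h
    exact ⟨_, _, by rw [eq_mul_inv_of_mul_eq h, B.wr.u_inv, B.wr.uu]⟩
  have fb : totA α (g * u (p + d * (q - p)) (d * (q - p))) = g * u (p + d * (q - p)) (d * (q - p)) := by
    rw [m.map_mul gC (B.u_mem_C ..), e, hu, mul_assoc, B.wr.uu]
    congr 2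
    linear_combination (p - q) * hd
  have bC := mul_mem gC (B.u_mem_C (p + d * (q - p)) (d * (q - p)))
  have cb : ∀ x y, g * u (p + d * (q - p)) (d * (q - p)) * u x y = u x y * (g * u (p + d * (q - p)) (d * (q - p))) :=
    fun x y => by rw [mul_assoc, B.wr.uu_comm, ← mul_assoc, c, mul_assoc]
  have b2 : ∃ x y, g * u (p + d * (q - p)) (d * (q - p)) * (g * u (p + d * (q - p)) (d * (q - p))) = u x y := by
    obtain ⟨x, y, h⟩ := h2
    exact ⟨_, _, by rw [(show Commute (u _ _) g from (c ..).symm).mul_mul_mul_comm, h, B.wr.uu, B.wr.uu]⟩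
  generalize g * u (p + d * (q - p)) (d * (q - p)) = b at *
  have bb : b * b = 1 := by
    obtain ⟨x, y, h⟩ := b2
    have h1 := m.map_mul bC bC
    rw [fb, h, hu, B.wr.u_eq] at h1
    rw [h, B.wr.u_eq_one]
    exact ⟨by linear_combination -d * h1.2 - x * hd - 2 * d * h1.1,
      by linear_combination -d * h1.2 - x * hd - (2 * d - 1) * h1.1⟩
  by_contra! hn
  have zC := H.mem_CS_z B.pr.cj.mem
  have aC := B.u_mem_C (hf k) 0
  have aK := H.cj_notMem B.pr.cj B.pr.ne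
  have αz : totA α z = u (hf k) 0 := by rw [B.z_eq, hu, neg_hf, sub_self]
  obtain ⟨e, h⟩ := act_one_of H (CS_le bC) (j := 1) (not_ev_iff.2 ⟨0, by simp⟩) (B.hr 1 ▸ cb ..)
  rcases two_eq_zero.1 (show 2 * e = 0 by linear_combination (h.of_sq H bb).2) with rfl | rfl
  · exact aK (αz ▸ H.sc b (CS_le bC) bb (B.wr.u_zero ▸ hn 0 0) (H.act_iff_comm.1 h) _ _ m bC fb z zC H.z_mem)
  have sN : s 0 ∈ normalizer (CS S (u (hf k) 0) : Set Ω) := mem_normalizer_fintype (swap H B.b1_act).2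
  have hψ := mul_mem hα (F.cAut_mem_autGroup CS_le (mem_normalizerIn.2 ⟨H.le (H.mc.s_mem 0), sN⟩))
  have eψ : ∀ x ∈ CS S (u (hf k) 0), totA (α * cAut _ (s 0)) x = totA α (s 0 * x * (s 0)⁻¹) := fun x hx => by
    rw [totA_mul _ _ hx, totA_cAut sN hx]
  generalize α * cAut _ (s 0) = ψ at hψ eψ
  have eφ : ∀ x ∈ CS S (u (hf k) 0), totA (ψ * α * ψ⁻¹) (totA ψ x) = totA ψ (totA α x) := fun x hx => by
    rw [← totA_mul _ _ hx, inv_mul_cancel_right, totA_mul _ _ hx]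
  have ψb : totA ψ b = b * u (hf k) 0 := by
    rw [eψ b bC, (swap H h).1, m.map_mul bC zC, fb, αz]
  have h1 := eφ b bC
  have h2 := eφ _ aC
  rw [fb, ψb] at h1
  rw [eψ _ aC, eψ _ (totA_mem _ aC), B.b1_su, hu, hu, B.b1_su, hu] at h2
  simp only [neg_zero, zero_sub, sub_zero, neg_hf, ← B.z_eq] at h2
  have aa : u (hf k) 0 * u (hf k) 0 = 1 := H.cj_sq B.pr.cj
  have h3 := H.sc _ (CS_le (mul_mem bC aC))
    (by rw [(show Commute (u _ _) b from (cb ..).symm).mul_mul_mul_comm, bb, aa, mul_one])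
    (fun e => hn _ _ (mul_right_cancel (e.trans aa.symm)))
    (H.act_iff_comm.1 (by simpa [← two_mul, two_hf] using h.mul B.b1_act)) _ _
    (mor_totA CS_le (mul_mem (mul_mem hψ hα) (inv_mem hψ))) (mul_mem bC aC) h1 z zC H.z_mem
  rw [h2, ← B.b1_az] at h3
  exact aK ((mul_mem_cancel_right H.z_mem).1 h3)

/-- The base group is self-centralizing in `S`. -/
theorem self_cent (hg : g ∈ S) (h1 : g * u 1 0 = u 1 0 * g) (h2 : g * u 0 1 = u 0 1 * g) :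
    ∃ x y, g = u x y := by
  have c : ∀ x y, g * u x y = u x y * g := fun x y => mul_inv_eq_iff_eq_mul.1 (by
    simpa using B.b1_lin (f := fun x => g * x * g⁻¹) (fun _ _ _ _ => conj_mul.symm) (mul_inv_eq_iff_eq_mul.2 h1)
      (mul_inv_eq_iff_eq_mul.2 h2) x y)
  obtain ⟨n, hn⟩ := B.hy.pg ⟨g, hg⟩
  replace hn : g ^ 2 ^ n = 1 := congrArg Subtype.val hn
  clear h1 h2
  induction n generalizing g with
  | zero => exact ⟨0, 0, by rw [B.wr.u_zero]; simpa using hn⟩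
  | succ n ih =>
    exact B.b1_step hg c (ih (mul_mem hg hg) (fun x y => by rw [mul_assoc, c, ← mul_assoc, c, mul_assoc])
      (by rwa [← pow_two, ← pow_mul, ← pow_succ']))

end Bd

end Cfsg.Agent.WQ
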