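import Mathlib
import Cfsg.Agent.WQ.B1

/-! The centralizer `C` of `u hf 0` has index two in `S`; points of `C` fixed by `α`. -/

set_option autoImplicit false
set_option linter.unusedSectionVars false

namespace Cfsg.Agent.WQ

open Subgroup Cfsg.FusionSystem Cfsg.Agent.Fus Cfsg.Agent.Inv.Fz Cfsg.Agent.G2T

variable {Ω : Type*} [Group Ω] [Finite Ω] {S K W P : Subgroup Ω} {F : FusionSystem S} {k : ℕ}
  {r s : R k → Ω} {u w : R k → R k → Ω} {z t g x y : Ω} {a b : R k} {f : Ω → Ω}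

theorem exists_third (k : ℕ) : ∃ e : R k, 3 * e = 1 := by
  obtain ⟨e, he⟩ := exists_mul_odd (1 : R k)
  exact ⟨e, by linear_combination he⟩

/-- The elements of `S` that centralize `t` modulo the central involution `z`. -/
def NZ (S : Subgroup Ω) (z t : Ω) (h : ∀ g ∈ S, z * g = g * z) (zz : z * z = 1) : Subgroup Ω where
  carrier := {g | g ∈ S ∧ (g * t * g⁻¹ = t ∨ g * t * g⁻¹ = t * z)}
  one_mem' := ⟨one_mem _, .inl (by group)⟩
  mul_mem' := by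
    rintro g g' ⟨h1, h2⟩ ⟨h3, h4⟩
    have e : g * (t * z) * g⁻¹ = g * t * g⁻¹ * z := by
      rw [mul_assoc _ g⁻¹, ← h _ (inv_mem h1)]; group
    refine ⟨mul_mem h1 h3, ?_⟩
    rw [show g * g' * t * (g * g')⁻¹ = g * (g' * t * g'⁻¹) * g⁻¹ by group]
    rcases h4 with h4 | h4 <;> rw [h4]
    · exact h2
    · rw [e]
      rcases h2 with h2 | h2 <;> rw [h2]
      exacts [.inr rfl, .inl (by rw [mul_assoc, zz, mul_one])]
  inv_mem' := by
    rintro g ⟨h1, h2 | h2⟩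
    · exact ⟨inv_mem h1, .inl (by nth_rw 1 [← h2]; group)⟩
    · refine ⟨inv_mem h1, .inr ?_⟩
      have : t = g * t * g⁻¹ * z := by rw [h2, mul_assoc, zz, mul_one]
      nth_rw 1 [this]
      rw [inv_inv, mul_assoc, mul_assoc, h _ h1]; group

namespace Bd

variable (B : Bd F K k r s z W u w)
include B

theorem u_mem_S (x y : R k) : u x y ∈ S := B.le (B.wr.u_mem x y)

theorem w_mem_S (x y : R k) : w x y ∈ S := B.le (B.wr.w_mem x y)

theorem a0_z : u (hf k) 0 * z = u 0 (hf k) := by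
  rw [B.z_eq, B.wr.uu, ← two_mul, two_hf, zero_add]

theorem a0_ne_z : u (hf k) 0 ≠ z := B.pr.ne

theorem b0_ne_z : u 0 (hf k) ≠ z := fun e => hf_ne (B.wr.u_eq.1 (e.trans B.z_eq)).1.symm

theorem inv_cases {p q : R k} (h2 : u p q * u p q = 1) (h1 : u p q ≠ 1) (h3 : u p q ≠ z) :
    u p q = u (hf k) 0 ∨ u p q = u 0 (hf k) := by
  rcases B.wr.involution_cases (B.wr.u_mem p q) h2 h1 with e | e | e | ⟨_, e⟩
  exacts [(h3 (e.trans B.z_eq.symm)).elim, .inl e, .inr e, (B.wr.w_ne_u _ _ _ _ e.symm).elim]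

theorem eq_u_of_act (hg : g ∈ CS S (u (hf k) 0)) (h : Act r s g 1 b) : ∃ x y, g = u x y :=
  B.self_cent (CS_le hg) (mul_inv_eq_iff_eq_mul.1 (by simpa using B.scalar hg h 1 0))
    (mul_inv_eq_iff_eq_mul.1 (by simpa using B.scalar hg h 0 1))

theorem conj_a0 (hg : g ∈ S) :
    g * u (hf k) 0 * g⁻¹ = u (hf k) 0 ∨ g * u (hf k) 0 * g⁻¹ = u (hf k) 0 * z := by
  have H := B.hy
  set N := NZ S z (u (hf k) 0) (fun _ => H.z_comm) H.z_sq
  have hN : ∀ {g}, g ∈ N ↔ g ∈ S ∧ (g * u (hf k) 0 * g⁻¹ = u (hf k) 0 ∨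
    g * u (hf k) 0 * g⁻¹ = u (hf k) 0 * z) := Iff.rfl
  refine (hN.1 (by_contra fun hne => ?_)).2
  obtain ⟨g, hg, hg'⟩ := SetLike.exists_of_lt
    (lt_normalizerIn H.pg (lt_of_le_not_ge (fun _ h => (hN.1 h).1) fun l => hne (l hg)))
  obtain ⟨j, hj⟩ := ev_iff.1 (ev_mm H.one_le)
  have c1 : g * u j j * g⁻¹ ∈ N :=
    (mem_normalizer_iff.1 hg.2 _).1 (hN.2 ⟨B.u_mem_S j j, .inl (B.wr.conj_uu _ _ _ _)⟩)
  have c2 : Act r s (g * u j j * g⁻¹) 1 0 := H.act_iff_comm.2 fun x hx => by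
    have := H.act_iff_comm.1 (by simpa using B.act_u j j) _ (H.conj_mem (inv_mem hg.1) hx)
    rw [show g * u j j * g⁻¹ * x = g * (u j j * (g⁻¹ * x * g⁻¹⁻¹)) * g⁻¹ by group, this]; group
  generalize e : g * u j j * g⁻¹ = c at c1 c2
  have c3 : c * c ∈ CS S (u (hf k) 0) := mem_CS.2 ⟨mul_mem (hN.1 c1).1 (hN.1 c1).1, by
    refine (mul_inv_eq_iff_eq_mul.1 ?_).symm
    rw [show c * c * u (hf k) 0 * (c * c)⁻¹ = c * (c * u (hf k) 0 * c⁻¹) * c⁻¹ by group]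
    rcases (hN.1 c1).2 with h | h
    · rw [h, h]
    · rw [h, ← mul_assoc, mul_assoc _ z, H.z_comm (inv_mem (hN.1 c1).1), ← mul_assoc, h, mul_assoc,
        H.z_sq, mul_one]⟩
  obtain ⟨p, q, e1⟩ := B.eq_u_of_act c3 (by simpa using c2.mul c2)
  obtain ⟨a, b, ha⟩ := H.exists_act hg.1
  have e2 : g * u (hf k) 0 * g⁻¹ = u (p + a * mm k) (q - a * mm k) := by
    have : u (hf k) 0 = u j j * u j j * r (mm k) := by
      rw [B.hr, B.wr.uu, B.wr.uu, ← two_mul, ← hj, ← two_mul, two_mm, add_neg_cancel]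
    rw [this, sub_eq_add_neg, ← B.wr.uu, ← B.hr, ← ha.1, ← e1, ← e]; group
  have e3 : u (hf k) 0 * u (hf k) 0 = 1 := H.cj_sq B.pr.cj
  refine hg' (hN.2 ⟨hg.1, ?_⟩)
  rw [B.a0_z, e2]
  refine B.inv_cases ?_ (fun h => H.cj_ne_one B.pr.cj ?_) fun h => B.a0_ne_z ?_
  · rw [← e2, conj_mul, e3]; group
  · rw [← e2] at h; simpa using h
  · rw [← e2, mul_inv_eq_iff_eq_mul, H.z_comm hg.1] at h; simpa using h

theorem cases (hg : g ∈ S) : g ∈ CS S (u (hf k) 0) ∨ g * w 0 0 ∈ CS S (u (hf k) 0) := by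
  rcases B.conj_a0 hg with h | h
  · exact .inl (mem_CS.2 ⟨hg, (mul_inv_eq_iff_eq_mul.1 h).symm⟩)
  · refine .inr (mem_CS.2 ⟨mul_mem hg (B.w_mem_S 0 0), (mul_inv_eq_iff_eq_mul.1 ?_).symm⟩)
    rw [show g * w 0 0 * u (hf k) 0 * (g * w 0 0)⁻¹ = g * (w 0 0 * u (hf k) 0 * (w 0 0)⁻¹) * g⁻¹ by
      group, B.wr.conj_wu, ← B.a0_z, ← mul_assoc, mul_assoc _ z, B.hy.z_comm (inv_mem hg),
      ← mul_assoc, h, mul_assoc, B.hy.z_sq, mul_one]

theorem conj_mem_C (hg : g ∈ S) (hx : x ∈ CS S (u (hf k) 0)) :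
    g * x * g⁻¹ ∈ CS S (u (hf k) 0) := by
  refine mem_CS.2 ⟨mul_mem (mul_mem hg (CS_le hx)) (inv_mem hg), ?_⟩
  have e : (g⁻¹ * u (hf k) 0 * g⁻¹⁻¹) * x = x * (g⁻¹ * u (hf k) 0 * g⁻¹⁻¹) := by
    rcases B.conj_a0 (inv_mem hg) with h | h <;> rw [h]
    · exact (mem_CS.1 hx).2
    · rw [mul_assoc, B.hy.z_comm (CS_le hx), ← mul_assoc, (mem_CS.1 hx).2, mul_assoc]
  rw [show u (hf k) 0 * (g * x * g⁻¹) = g * ((g⁻¹ * u (hf k) 0 * g⁻¹⁻¹) * x) * g⁻¹ by group, e]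
  group

/-- `α` moves a point of `C` inside its coset of the base group. -/
theorem alpha_eq {α : MulAut (CS S (u (hf k) 0))} (h : ∀ x y, totA α (u x y) = u y (-x - y))
    (hg : g ∈ CS S (u (hf k) 0)) : ∃ p q, totA α g = g * u p q := by
  obtain ⟨a, b, ha⟩ := B.hy.exists_act (CS_le hg)
  have key : ∀ x y, g⁻¹ * totA α g * u y (-x - y) = u y (-x - y) * (g⁻¹ * totA α g) := by
    intro x y
    have e1 := (mulOn_totA α).map_conj hg (B.u_mem_C x y)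
    rw [B.scalar hg ha, h, h, show -(a * x) - a * y = a * (-x - y) by ring, ← B.scalar hg ha] at e1
    rw [← mul_inv_eq_iff_eq_mul, show g⁻¹ * totA α g * u y (-x - y) * (g⁻¹ * totA α g)⁻¹ =
      g⁻¹ * (totA α g * u y (-x - y) * (totA α g)⁻¹) * g by group, ← e1]
    group
  obtain ⟨p, q, e⟩ := B.self_cent (mul_mem (inv_mem (CS_le hg)) (CS_le (totA_mem α hg)))
    (by simpa using key (-1) 1) (by simpa using key (-1) 0)
  exact ⟨p, q, by rw [← e, mul_inv_cancel_left]⟩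

/-- Every coset of the base group in `C` has a point fixed by `α`. -/
theorem exists_fix {α : MulAut (CS S (u (hf k) 0))} (h : ∀ x y, totA α (u x y) = u y (-x - y))
    (hg : g ∈ CS S (u (hf k) 0)) : ∃ x y, totA α (g * u x y) = g * u x y := by
  obtain ⟨p, q, e⟩ := B.alpha_eq h hg
  obtain ⟨c, hc⟩ := exists_third k
  refine ⟨p + c * (q - p), c * (q - p), ?_⟩
  rw [(mulOn_totA α) _ hg _ (B.u_mem_C _ _), e, h, mul_assoc, B.wr.uu]
  congr 2
  linear_combination (p - q) * hc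

/-- A point of `C` fixed by `α` whose square centralizes `r 1` has square one. -/
theorem sq_of_fix {α : MulAut (CS S (u (hf k) 0))} (h : ∀ x y, totA α (u x y) = u y (-x - y))
    (hg : g ∈ CS S (u (hf k) 0)) (e : totA α g = g) (ha : Act r s g a b) (h2 : a * a = 1) :
    g * g = 1 := by
  obtain ⟨x, y, e1⟩ := B.eq_u_of_act (mul_mem hg hg) (h2 ▸ ha.mul ha)
  have e2 := (mulOn_totA α) _ hg _ hg
  rw [e, e1, h, B.wr.u_eq] at e2
  obtain ⟨c, hc⟩ := exists_third k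
  have e3 : y = 0 := by linear_combination -c * e2.2 + c * e2.1 - y * hc
  rw [e1, B.wr.u_eq_one]
  exact ⟨e2.1 ▸ e3, e3⟩

/-- `z` is the only involution of `C_S(K)`. -/
theorem eq_z_of_act (hy : y ∈ S) (h : Act r s y 1 0) (h2 : y * y = 1) : y = 1 ∨ y = z := by
  have H := B.hy
  rcases B.cases hy with c | c
  · obtain ⟨p, q, rfl⟩ := B.eq_u_of_act c h
    obtain rfl : p = q := sub_eq_zero.1 ((B.act_u p q).unique H h).2
    by_cases h1 : u p p = 1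
    · exact .inl h1
    · exact .inr (by rw [B.z_eq, B.wr.eq_hh_of_diag h2 h1])
  · obtain ⟨α, -, -, hα⟩ := B.exists_alpha
    have c1 : y * s 0 ∈ CS S (u (hf k) 0) := by
      have := mul_mem c (B.u_mem_C (hf k) 0)
      rwa [mul_assoc, B.wr.wu, add_zero, zero_add, ← sub_zero (hf k), ← B.hs, sub_zero] at this
    have c2 := h.mul (H.act_s 0)
    have c3 : y * s 0 * (y * s 0) = z := by
      rw [mul_assoc, ← mul_assoc (s 0), ← H.act_iff_comm.1 h _ (H.mc.s_mem 0), mul_assoc,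
        ← mul_assoc y, h2, one_mul, H.s_sq]
    generalize y * s 0 = g at c1 c2 c3
    obtain ⟨p, q, e⟩ := B.exists_fix hα c1
    have e1 := B.sq_of_fix hα (mul_mem c1 (B.u_mem_C p q)) e (c2.mul (B.act_u p q)) (by ring)
    rw [show g * u p q * (g * u p q) = g * u p q * g⁻¹ * (g * g) * u p q by group, c3,
      B.scalar c1 c2, B.z_eq, B.wr.uu, B.wr.uu, B.wr.u_eq_one] at e1
    exact (hf_ne (by linear_combination e1.1)).elim

end Bd

end Cfsg.Agent.WQ
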