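import Mathlib
import Cfsg.Agent.WQ.Defs

/-! Thompson transfer for fusion systems, extremal form. -/

set_option autoImplicit false

namespace Cfsg.Agent.WQ

open Subgroup Cfsg.FusionSystem Cfsg.Agent.Fus Cfsg.Agent.Inv.Fz Cfsg.Agent.G2T

/-- Thompson transfer for fusion systems, extremal form. -/
theorem tl {Ω : Type*} [Group Ω] {S : Subgroup Ω} [Finite S] {F : FusionSystem S}
    (hF : F.IsSaturated 2) (hS : IsPGroup 2 S) (hfoc : F.focalSubgroup = S)
    {A : Type*} [CommGroup A] {l : Ω → A} (hl : MulOn S l)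
    (h2 : ∀ x ∈ S, ∀ y ∈ S, x * x = 1 → y * y = 1 → l x ≠ 1 → l y ≠ 1 → l x = l y)
    {v : Ω} (hv : v ∈ S) (hv2 : v * v = 1) : ∃ f, F.Mor (CS S v) f ∧ l (f v) = 1 := by
  classical
  obtain ⟨J, _, _, ⟨D⟩⟩ := hF.exists_charData hS
  have := Fintype.ofFinite J
  set L : S →* A := hl.hom with hL
  set v' : S := ⟨v, hv⟩
  have vv : v' * v' = 1 := Subtype.ext hv2
  have h0 : ∏ j, L (D.t v' j) = 1 := by
    obtain ⟨x, hx, e⟩ := D.focal_le_ker_tr L (hfoc.ge hv)
    rw [← D.tr_apply, show v' = x from Subtype.ext e.symm]; exact hx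
  have tt : ∀ j, D.t v' (v' • j) * D.t v' j = 1 := fun j => by rw [← D.t_mul, vv, D.t_one]
  have nf : ∀ {B : Type _} [CommGroup B] (h : J → B), (∀ j, h j * h (v' • j) = 1) →
      ∏ j with ¬ v' • j = j, h j = 1 := fun h hh =>
    Finset.prod_involution (fun j _ => v' • j) (fun j _ => hh j)
      (fun j hj _ => (Finset.mem_filter.1 hj).2)
      (fun j hj => Finset.mem_filter.2 ⟨Finset.mem_univ _, fun e => (Finset.mem_filter.1 hj).2
        (by rw [← mul_smul, vv, one_smul] at e; exact e.symm)⟩)
      fun j _ => by rw [← mul_smul, vv, one_smul]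
  have e1 : Even (Finset.univ.filter fun j : J => ¬ v' • j = j).card := by
    have := nf (B := ULift ℤˣ) (fun _ => ⟨-1⟩) fun _ => by ext; simp
    rw [Finset.prod_const] at this
    exact (neg_one_pow_eq_one_iff_even (by decide)).1 (congrArg ULift.down this)
  rw [← Finset.prod_filter_mul_prod_filter_not _ fun j => v' • j = j,
    nf (fun j => L (D.t v' j)) fun j => by rw [mul_comm, ← map_mul, tt, map_one], mul_one,
    ← Finset.prod_filter_mul_prod_filter_not _ fun j => L (D.t v' j) = 1,
    Finset.prod_eq_one fun j hj => (Finset.mem_filter.1 hj).2, one_mul] at h0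
  have sq : ∀ j, v' • j = j → (D.t v' j : Ω) * D.t v' j = 1 := fun j hj =>
    congrArg Subtype.val (hj ▸ tt j :)
  have e2 : Even ((Finset.univ.filter fun j : J => v' • j = j).filter
      fun j => ¬ L (D.t v' j) = 1).card := by
    rcases Finset.eq_empty_or_nonempty ((Finset.univ.filter fun j : J => v' • j = j).filter
      fun j => ¬ L (D.t v' j) = 1) with e | ⟨i, hi⟩
    · rw [e]; exact Even.zero
    simp only [Finset.mem_filter, Finset.mem_univ, true_and] at hi
    rw [Finset.prod_congr rfl (g := fun _ => L (D.t v' i)) fun j hj => by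
      simp only [Finset.mem_filter, Finset.mem_univ, true_and] at hj
      exact h2 _ (D.t v' j).2 _ (D.t v' i).2 (sq j hj.1) (sq i hi.1) hj.2 hi.2,
      Finset.prod_const] at h0
    have o : orderOf (L (D.t v' i)) = 2 := orderOf_eq_prime
      (by rw [pow_two, ← map_mul, show D.t v' i * D.t v' i = 1 from Subtype.ext (sq i hi.1),
        map_one]) hi.2
    have := orderOf_dvd_of_pow_eq_one h0
    rw [o] at this
    exact even_iff_two_dvd.2 this
  let X : SubMulAction ((CS S v).subgroupOf S) J :=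
    { carrier := {j | v' • j = j ∧ L (D.t v' j) = 1}
      smul_mem' := by
        rintro ⟨c, hc⟩ j ⟨h1, h3⟩
        have e : v' * c = c * v' := Subtype.ext (mem_CS.1 hc).2
        refine ⟨by change v' • c • j = c • j; rw [← mul_smul, e, mul_smul, h1], ?_⟩
        have := congrArg L (D.t_mul v' c j)
        rw [e, D.t_mul, h1, map_mul, map_mul, h3, mul_one] at this
        exact right_eq_mul.1 this }
  have hX : ¬ 2 ∣ Nat.card X := fun h => D.not_dvd (by
    have c1 : Nat.card X = ((Finset.univ.filter fun j : J => v' • j = j).filter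
        fun j => L (D.t v' j) = 1).card := by
      rw [Finset.filter_filter, ← Fintype.card_subtype, ← Nat.card_eq_fintype_card]; rfl
    rw [Nat.card_eq_fintype_card, ← Finset.card_univ,
      ← Finset.card_filter_add_card_filter_not (fun j : J => v' • j = j),
      ← Finset.card_filter_add_card_filter_not (s := Finset.univ.filter fun j : J => v' • j = j)
        (fun j => L (D.t v' j) = 1), ← c1]
    exact dvd_add (dvd_add h e2.two_dvd) e1.two_dvd)
  obtain ⟨⟨j, hj⟩, hj'⟩ :=
    (hS.to_subgroup ((CS S v).subgroupOf S)).nonempty_fixed_point_of_prime_not_dvd_card X hX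
  obtain ⟨f, hf, e⟩ := D.gen j
  refine ⟨f, hf.mono fun x hx => ⟨⟨x, CS_le hx⟩, congrArg Subtype.val (hj' ⟨⟨x, CS_le hx⟩, hx⟩), rfl⟩,
    ?_⟩
  rw [← show (D.t v' j : Ω) = f v from e v' hj.1]
  exact hj.2

end Cfsg.Agent.WQ
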