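import Mathlib
import Cfsg.Agent.WQ.B2
import Cfsg.Agent.WQ.TL

/-! Every element of `S` centralizes or inverts the cyclic subgroup of index two of `K`. -/

set_option autoImplicit false
set_option linter.unusedSectionVars false

namespace Cfsg.Agent.WQ

open Subgroup Cfsg.FusionSystem Cfsg.Agent.Fus Cfsg.Agent.Inv.Fz Cfsg.Agent.G2T

variable {Ω : Type*} [Group Ω] [Finite Ω] {S K W P : Subgroup Ω} {F : FusionSystem S} {k : ℕ}
  {r s : R k → Ω} {u w : R k → R k → Ω} {z t g x y : Ω} {a b : R k} {f : Ω → Ω}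

namespace B3

/-- The subgroup `{1, -1}` of the units of a ring. -/
def pm (A : Type*) [CommRing A] : Subgroup Aˣ where
  carrier := {c | c = 1 ∨ c = -1}
  one_mem' := .inl rfl
  mul_mem' := by rintro _ _ (rfl | rfl) (rfl | rfl) <;> simp
  inv_mem' := by rintro _ (rfl | rfl) <;> simp

theorem mem_pm {A : Type*} [CommRing A] {c : Aˣ} : c ∈ pm A ↔ (c : A) = 1 ∨ (c : A) = -1 :=
  or_congr Units.ext_iff Units.ext_iff

theorem sq_ne (h : ¬ Ev a) : a * a ≠ -1 := fun e => by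
  obtain ⟨c, rfl⟩ := not_ev_iff.1 h
  exact hf_ne (k := k) (by
    linear_combination mm k * e - (1 + 2 * c + 2 * c * c) * two_mm - (c + c * c) * two_hf)

theorem hf_sq : hf k * hf k = 0 := ev_hf

theorem hf_mm (h : 1 ≤ k) : hf k * mm k = 0 := ev_mm h

theorem eq_of_mul {A : Type*} [Group A] {l : Ω → A} (hl : MulOn S l) (hx : x ∈ S) (hy : y ∈ S)
    (h2 : y * y = 1) (h : l (x * y) = 1) : l x = l y := by
  rw [← mul_left_inj (l y), ← hl y hy y hy, h2, hl.map_one, ← hl x hx y hy, h]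

theorem tl_act (H : Hy F K k r s z) (hfoc : F.focalSubgroup = S) (hg : g ∈ S) (h2 : g * g = 1) :
    ∃ f a b, F.Mor (CS S g) f ∧ Act r s (f g) a b ∧ (a = 1 ∨ a = -1) := by
  classical
  choose! A B hA using fun g (hg : g ∈ S) => H.exists_act hg
  let l : Ω → (R k)ˣ ⧸ pm (R k) := fun g =>
    if h : g ∈ S then QuotientGroup.mk ((hA g h).isUnit H).unit else 1
  have l1 : ∀ g ∈ S, l g = 1 ↔ A g = 1 ∨ A g = -1 := fun g h => by
    simp only [l, dif_pos h, QuotientGroup.eq_one_iff, mem_pm, IsUnit.unit_spec]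
  have hl : MulOn S l := fun x hx y hy => by
    simp only [l, dif_pos hx, dif_pos hy, dif_pos (mul_mem hx hy), ← QuotientGroup.mk_mul]
    exact congrArg _ (Units.ext ((hA _ (mul_mem hx hy)).unique H ((hA x hx).mul (hA y hy))).1)
  obtain ⟨f, hf, e⟩ := tl H.sat H.pg hfoc (l := l) hl (fun x hx y hy x2 y2 h1 h3 => by
    refine eq_of_mul hl hx hy y2 ?_
    rw [l1 _ (mul_mem hx hy), ((hA _ (mul_mem hx hy)).unique H ((hA x hx).mul (hA y hy))).1]
    rw [Ne, l1 _ hx, not_or] at h1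
    rw [Ne, l1 _ hy, not_or] at h3
    rcases sq_eq_one_cases ((hA x hx).of_sq H x2).1 with e | e | e | e <;>
      rcases sq_eq_one_cases ((hA y hy).of_sq H y2).1 with e' | e' | e' | e' <;>
      first | exact (h1.1 e).elim | exact (h1.2 e).elim | exact (h3.1 e').elim
            | exact (h3.2 e').elim | rw [e, e']
    exacts [.inl (by linear_combination two_hf + hf_sq), .inr (by linear_combination hf_sq),
      .inr (by linear_combination hf_sq), .inl (by linear_combination hf_sq - two_hf)]) hg h2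
  have := hf.mem (self_mem_CS hg)
  exact ⟨f, _, _, hf, hA _ this, (l1 _ this).1 e⟩

theorem reduce (H : Hy F K k r s z) (n : ℕ) : ∀ {g : Ω} {a b : R k}, g ∈ P → Act r s g a b →
    g ^ 2 ^ n = 1 → a ≠ 1 → a ≠ -1 →
    ∃ g ∈ P, ∃ a b, Act r s g a b ∧ (a = 1 + hf k ∨ a = -1 + hf k) := by
  induction n with
  | zero =>
    intro g a b _ h e h1 _
    obtain rfl : g = 1 := by simpa using e
    exact (h1 (h.unique H act_one).1).elim
  | succ n ih =>
    intro g a b hg h e h1 h2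
    by_cases h3 : a * a = 1
    · exact ⟨g, hg, a, b, h, ((sq_eq_one_cases h3).resolve_left h1).resolve_left h2⟩
    · exact ih (mul_mem hg hg) (h.mul h) (by rw [← pow_two, ← pow_mul, ← pow_succ', e]) h3
        (sq_ne (h.not_ev H))

theorem act_of_ne (H : Hy F K k r s z) (hf' : F.Mor P f) (h : Cj F z t) (hx : x ∈ P)
    (hR : x ∈ Rt F K z t) (e : x * x = t) (hne : f t ≠ z) : Act r s (f t) 1 (hf k) :=
  have ht : t ∈ P := e ▸ mul_mem hx hx
  H.act_of_sq (h.map hf' ht) hne ((H.map_mem_Rt h hf' ht hx).2 hR) (by rw [← hf'.map_mul hx hx, e])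

theorem act_z (H : Hy F K k r s z) (hf' : F.Mor P f) (hx : r (mm k) ∈ P) (hne : f z ≠ z) :
    Act r s (f z) 1 (hf k) :=
  act_of_ne H hf' H.cj_z hx (H.Rt_z.ge (H.mc.r_mem _)) H.r_mm_sq hne

theorem two_mul_ne (H : Hy F K k r s z) (hf' : F.Mor P f) {i j : R k} (hx : r i ∈ P)
    (e : f (r i) = r j) (hi : i = 2 ∨ i = -2) : 2 * j ≠ 0 := fun h => by
  have := hf'.map_mul hx hx
  rw [e, H.mc.rr, H.mc.rr, ← two_mul j, h, H.mc.r_zero, hf'.eq_one_iff (H.mc.rr i i ▸ mul_mem hx hx),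
    H.mc.r_eq_one] at this
  refine r2_four_ne_zero (t := k + 1) (by have := H.one_le; omega) ?_
  rcases hi with rfl | rfl
  exacts [by linear_combination this, by linear_combination -this]

variable (B : Bd F K k r s z W u w)
include B

theorem act_a0 (hf' : F.Mor P f) (hx : u (mm k) 0 ∈ P) (hne : f (u (hf k) 0) ≠ z) :
    Act r s (f (u (hf k) 0)) 1 (hf k) :=
  act_of_ne B.hy hf' B.pr.cj hx (B.rt ▸ B.wr.mem_zpowers_u.2 ⟨mm k, by simp⟩)
    (by rw [B.wr.uu, ← two_mul, two_mm, add_zero]) hne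

theorem eq_one_of_map (hf' : F.Mor P f) (hz : z ∈ P) (e : f z = z) (hy : y ∈ P) (h2 : y * y = 1)
    (h : Act r s (f y) 1 0) (h' : Act r s y a b) : a = 1 := by
  have H := B.hy
  rcases B.eq_z_of_act (hf'.mem hy) h (by rw [← hf'.map_mul hy hy, h2, hf'.map_one]) with c | c
  · obtain rfl := (hf'.eq_one_iff hy).1 c
    exact (h'.unique H act_one).1
  · obtain rfl := hf'.inj hy hz (c.trans e.symm)
    exact (h'.unique H (H.hz ▸ H.act_r _)).1

theorem lemma_one (hg : g ∈ CS S (u (hf k) 0)) (h2 : g * g = 1) {d : R k}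
    (hd : Act r s g (1 + hf k) d) (hf' : F.Mor P f) (hP : g ∈ P)
    (hu : ∀ x y, Ev x → Ev y → u x y ∈ P) (e : f z = z) (h : Act r s (f g) a b)
    (ha : a = 1 ∨ a = -1) : False := by
  have H := B.hy
  have hz : z ∈ P := B.z_eq ▸ hu _ _ ev_hf ev_hf
  have h0 : u (hf k) 0 ∈ P := hu _ _ ev_hf (mul_zero _)
  have h1 := act_a0 B hf' (hu _ _ (ev_mm H.one_le) (mul_zero _))
    fun c => B.a0_ne_z (hf'.inj h0 hz (c.trans e.symm))
  have ev2 : Ev (2 : R k) := by simpa using ev_two_mul (1 : R k)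
  have h3 : r 2 ∈ P := B.hr 2 ▸ hu _ _ ev2 (by simpa using ev_two_mul (-1 : R k))
  obtain ⟨j, c | c⟩ := H.mc.cases ((H.scz hf' hz e h3).2 (H.mc.r_mem 2))
  swap
  · have := (h1.s_comm_iff H).1 (c ▸ (hf'.commute_iff h0 h3).2 (by rw [B.hr, B.wr.uu_comm]))
    exact hf_ne (by linear_combination this)
  have h4 := (h.r_comm_iff H).1 (c ▸ (hf'.commute_iff hP h3).2 ((hd.r_comm_iff H).2
    (by linear_combination two_hf)))
  obtain rfl : a = 1 := ha.resolve_right fun ha => two_mul_ne H hf' h3 c (.inl rfl)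
    (by rw [ha] at h4; linear_combination -h4)
  have h5 := (h.of_sq H (by rw [← hf'.map_mul hP hP, h2, hf'.map_one])).2
  rcases two_eq_zero.1 (show 2 * b = 0 by linear_combination h5) with rfl | rfl
  · exact hf_ne (by linear_combination eq_one_of_map B hf' hz e hP h2 h hd)
  · have := h.mul h1
    rw [← hf'.map_mul hP h0, mul_one, one_mul, ← two_mul, two_hf] at this
    have := eq_one_of_map B hf' hz e (mul_mem hP h0) (by
      rw [mul_assoc, ← mul_assoc _ g, (mem_CS.1 hg).2, mul_assoc, H.cj_sq B.pr.cj, mul_one, h2])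
      this (hd.mul (B.act_u _ _))
    exact hf_ne (by linear_combination this)

theorem case_one (hfoc : F.focalSubgroup = S) (hg : g ∈ CS S (u (hf k) 0)) {d : R k}
    (hd : Act r s g (1 + hf k) d) : False := by
  have H := B.hy
  obtain ⟨α, hα, -, h⟩ := B.exists_alpha
  obtain ⟨p, q, e⟩ := B.exists_fix h hg
  have hg' := mul_mem hg (B.u_mem_C p q)
  have hd' := hd.mul (B.act_u p q)
  rw [mul_one] at hd'
  generalize g * u p q = g at e hg' hd'
  have h2 := B.sq_of_fix h hg' e hd' (by linear_combination two_hf + hf_sq)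
  obtain ⟨f, a, b, hf', ha, hpm⟩ := tl_act H hfoc (CS_le hg') h2
  have hm := mor_totA CS_le hα
  have h3 : ∀ x ∈ CS S (u (hf k) 0) ⊓ CS S g, totA α x ∈ CS S (u (hf k) 0) ⊓ CS S g :=
    fun x hx => ⟨totA_mem α hx.1, e ▸ map_mem_CS hm hg' hx.1 hx.2⟩
  have hu : ∀ x y, Ev x → Ev y → u x y ∈ CS S (u (hf k) 0) ⊓ CS S g := fun x y hx hy =>
    ⟨B.u_mem_C x y, mem_CS.2 ⟨B.u_mem_S x y, mul_inv_eq_iff_eq_mul.1 (by
      rw [B.scalar hg' hd', add_mul, add_mul, show hf k * x = 0 from hx, show hf k * y = 0 from hy]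
      simp)⟩⟩
  have m0 := hf'.mono (inf_le_right : CS S (u (hf k) 0) ⊓ CS S g ≤ _)
  have m1 := m0.comp (hm.mono inf_le_left) h3
  have m2 := m1.comp (hm.mono inf_le_left) h3
  have hP : g ∈ CS S (u (hf k) 0) ⊓ CS S g := ⟨hg', self_mem_CS (CS_le hg')⟩
  have e1 : totA α z = u (hf k) 0 := by rw [B.z_eq, h, neg_hf, sub_self]
  have e2 : totA α (u (hf k) 0) = u 0 (hf k) := by rw [h, neg_hf, sub_zero]
  have em := ev_mm H.one_le
  have hm0 := hu _ _ em (mul_zero _)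
  have c0 := act_z H m0 (B.hr _ ▸ hu _ _ em (by rw [Ev, mul_neg, hf_mm H.one_le, neg_zero]))
    fun c => lemma_one B hg' h2 hd' m0 hP hu c ha hpm
  have c1 := act_a0 B m0 hm0 fun c => lemma_one B hg' h2 hd' m1 hP hu (by rw [e1, c])
    (by rw [e]; exact ha) hpm
  have c2 := act_a0 B m1 hm0 fun c => lemma_one B hg' h2 hd' m2 hP hu (by rw [e1]; exact c)
    (by rw [e, e]; exact ha) hpm
  rw [e2, ← B.a0_z, m0.map_mul (hu _ _ ev_hf (mul_zero _)) (B.z_eq ▸ hu _ _ ev_hf ev_hf)] at c2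
  exact hf_ne (by linear_combination -(c2.unique H (c1.mul c0)).2)

theorem mem_C_of (hg : g ∈ S) (h : t = u (hf k) 0 ∨ t = u 0 (hf k)) (e : t * g = g * t) :
    g ∈ CS S (u (hf k) 0) := by
  refine mem_CS.2 ⟨hg, ?_⟩
  rcases h with rfl | rfl
  · exact e
  · rwa [← B.a0_z, mul_assoc, B.hy.z_comm hg, ← mul_assoc, ← mul_assoc, mul_left_inj] at e

theorem exists_sq (hf' : F.Mor P f) (hz : z ∈ P) (e : f z = z)
    (hx : u (-1 + hf k) 1 ∈ P) :
    ∃ j, f (u (-1 + hf k) 1) * f (u (-1 + hf k) 1) = r j ∧ 2 * j ≠ 0 := by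
  have H := B.hy
  have e1 : u (-1 + hf k) 1 * u (-1 + hf k) 1 = r (-2) := by
    rw [B.hr, B.wr.uu, B.wr.u_eq]
    exact ⟨by linear_combination two_hf, by ring⟩
  have h3 : r (-2) ∈ P := e1 ▸ mul_mem hx hx
  obtain ⟨a, b, h⟩ := H.exists_act (hf'.mem hx)
  have h4 := h.mul h
  rw [← hf'.map_mul hx hx, e1] at h4 ⊢
  obtain ⟨j, c | c⟩ := H.mc.cases ((H.scz hf' hz e h3).2 (H.mc.r_mem _))
  · exact ⟨j, c, two_mul_ne H hf' h3 c (.inr rfl)⟩
  · exact (sq_ne (h.not_ev H) (h4.unique H (c ▸ H.act_s j)).1).elim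

theorem lemma_two (n1 : ∀ g ∈ CS S (u (hf k) 0), ∀ d, ¬ Act r s g (1 + hf k) d)
    (n2 : ∀ g ∈ CS S (u (hf k) 0), ∀ d, ¬ Act r s g (-1) d) (h2 : g * g = 1) {d : R k}
    (hd : Act r s g (1 + hf k) d) (hc : g * u (-1 + hf k) 1 = u (-1 + hf k) 1 * g)
    (hf' : F.Mor P f) (hP : g ∈ P) (hz : z ∈ P) (hx : u (-1 + hf k) 1 ∈ P) (e : f z = z)
    {p q : R k} (h : f g = u p q) : False := by
  have H := B.hy
  have h1 : f g = u (hf k) 0 ∨ f g = u 0 (hf k) := by
    rw [h]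
    refine B.inv_cases (by rw [← h, ← hf'.map_mul hP hP, h2, hf'.map_one]) (fun c => ?_) fun c => ?_
    · obtain rfl := (hf'.eq_one_iff hP).1 (h.trans c)
      exact hf_ne (by linear_combination (hd.unique H act_one).1)
    · obtain rfl := hf'.inj hP hz (h.trans (c.trans e.symm))
      exact hf_ne (by linear_combination (hd.unique H (H.hz ▸ H.act_r _)).1)
  have h3 := mem_C_of B (hf'.mem hx) h1 ((hf'.commute_iff hP hx).2 hc)
  obtain ⟨j, c, hj⟩ := exists_sq B hf' hz e hx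
  obtain ⟨a, b, ha⟩ := H.exists_act (hf'.mem hx)
  have h4 := (ha.r_comm_iff H (i := j)).1 (by rw [← c, mul_assoc])
  rcases sq_eq_one_cases ((ha.mul ha).unique H (c ▸ H.act_r j)).1 with rfl | rfl | rfl | rfl
  rotate_left
  · exact n2 _ h3 _ ha
  · exact n1 _ h3 _ ha
  · exact hj (by linear_combination -(1 + mm k) * h4 - j * two_mm + j * hf_mm H.one_le)
  obtain ⟨x, y, e1⟩ := B.eq_u_of_act h3 ha
  rw [e1, B.wr.uu, B.hr, B.wr.u_eq] at c
  rcases two_eq_zero.1 (show 2 * (x + y) = 0 by linear_combination c.1 + c.2) with c | c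
  · obtain ⟨i, c | c⟩ := H.mc.cases ((H.scz hf' hz e hx).1 (by
      rw [e1, eq_neg_of_add_eq_zero_right c, ← B.hr]; exact H.mc.r_mem _))
    · rw [B.hr, B.wr.u_eq] at c
      exact hf_ne (by linear_combination c.1 + c.2)
    · exact B.wr.w_ne_u _ _ _ _ (c.trans (B.hs i)).symm
  · have : f (u (-1 + hf k) 1 * g) ∈ K := by
      rw [hf'.map_mul hx hP, e1]
      rcases h1 with h1 | h1 <;> rw [h1, B.wr.uu]
      · rw [show y + 0 = -(x + hf k) by linear_combination c + two_hf, ← B.hr]; exact H.mc.r_mem _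
      · rw [show y + hf k = -(x + 0) by linear_combination c + two_hf, ← B.hr]; exact H.mc.r_mem _
    have h5 := (B.act_u (-1 + hf k) 1).mul hd
    obtain ⟨i, c | c⟩ := H.mc.cases ((H.scz hf' hz e (mul_mem hx hP)).1 this)
    · exact hf_ne (by linear_combination (h5.unique H (c ▸ H.act_r i)).1)
    · exact r2_four_ne_zero (t := k + 1) (by have := H.one_le; omega)
        (by linear_combination 2 * (h5.unique H (c ▸ H.act_s i)).1 - two_hf)

theorem exists_outer (hg : g ∈ CS S (u (hf k) 0)) {d : R k} (hd : Act r s g (-1 + hf k) d) :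
    ∃ g ∈ S, g * g = 1 ∧ (∃ d, Act r s g (1 + hf k) d) ∧
      g * u (-1 + hf k) 1 = u (-1 + hf k) 1 * g := by
  have h1 := (B.act_w 0 0).mul hd
  rw [show -1 * (-1 + hf k) = 1 + hf k by linear_combination -two_hf] at h1
  have h2 : ∀ x y, w 0 0 * g * u x y * (w 0 0 * g)⁻¹ = u ((-1 + hf k) * y) ((-1 + hf k) * x) :=
    fun x y => by rw [← B.wr.conj_wu 0 0 ((-1 + hf k) * x), ← B.scalar hg hd]; group
  have h3 : w 0 0 * g * (w 0 0 * g) ∈ CS S (u (hf k) 0) := by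
    have := mul_mem (B.conj_mem_C (B.w_mem_S 0 0) hg) hg
    rwa [B.wr.w_inv, neg_zero, mul_assoc] at this
  have hS := mul_mem (B.w_mem_S 0 0) (CS_le hg)
  generalize w 0 0 * g = g at h1 h2 h3 hS
  have h4 := h1.mul h1
  rw [show (1 + hf k) * (1 + hf k) = 1 by linear_combination two_hf + hf_sq] at h4
  obtain ⟨p, q, e⟩ := B.eq_u_of_act h3 h4
  have e1 := h2 p q
  rw [← e, mul_inv_eq_iff_eq_mul.2 (mul_assoc _ _ _).symm, e, B.wr.u_eq] at e1
  refine ⟨g * u (-p) 0, mul_mem hS (B.u_mem_S _ _), ?_, ⟨_, mul_one (1 + hf k) ▸ h1.mul (B.act_u _ _)⟩, ?_⟩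
  · rw [show g * u (-p) 0 * (g * u (-p) 0) = g * u (-p) 0 * g⁻¹ * (g * g) * u (-p) 0 by group, h2, e,
      B.wr.uu, B.wr.uu, B.wr.u_eq_one]
    exact ⟨by ring, by linear_combination e1.2⟩
  · rw [mul_assoc, B.wr.uu_comm, ← mul_assoc, mul_inv_eq_iff_eq_mul.1 (h2 _ _), mul_assoc, mul_one,
      show (-1 + hf k) * (-1 + hf k) = 1 by linear_combination hf_sq - two_hf]

theorem case_two (hfoc : F.focalSubgroup = S) (hg : g ∈ CS S (u (hf k) 0)) {d : R k}
    (hd : Act r s g (-1 + hf k) d) : False := by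
  have H := B.hy
  have n1 : ∀ g ∈ CS S (u (hf k) 0), ∀ d, ¬ Act r s g (1 + hf k) d :=
    fun g hg d hd => case_one B hfoc hg hd
  have n2 : ∀ g ∈ CS S (u (hf k) 0), ∀ d, ¬ Act r s g (-1) d := fun g' hg' d' hd' =>
    n1 _ (mul_mem hg' hg) _ (by
      rw [show 1 + hf k = -1 * (-1 + hf k) by linear_combination two_hf]; exact hd'.mul hd)
  have n3 : ∀ g ∈ S, ∀ d, Act r s g 1 d → ∃ x y, g = u x y := fun g hg d hd =>
    B.eq_u_of_act ((B.cases hg).resolve_right fun c =>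
      n2 _ c _ (one_mul (-1 : R k) ▸ hd.mul (B.act_w 0 0))) hd
  obtain ⟨g, hg, h2, ⟨d, hd⟩, hc⟩ := exists_outer B hg hd
  obtain ⟨f, a, b, hf', ha, hpm⟩ := tl_act H hfoc hg h2
  have hx : u (-1 + hf k) 1 ∈ CS S g := mem_CS.2 ⟨B.u_mem_S _ _, hc⟩
  have hz := H.mem_CS_z hg
  have hP := self_mem_CS hg
  by_cases e : f z = z
  · obtain ⟨j, c, hj⟩ := exists_sq B hf' hz e hx
    have h4 := (ha.r_comm_iff H (i := j)).1 (by
      have := (hf'.commute_iff hP hx).2 hc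
      rw [← c, ← mul_assoc, this, mul_assoc, this, mul_assoc])
    obtain rfl : a = 1 := hpm.resolve_right fun h => hj (by rw [h] at h4; linear_combination -h4)
    obtain ⟨p, q, h⟩ := n3 _ (hf'.mem hP) _ ha
    exact lemma_two B n1 n2 h2 hd hc hf' hP hz hx e h
  obtain ⟨x, y, e1⟩ := n3 _ (hf'.mem hz) _ (act_z H hf' (mem_CS.2 ⟨H.le (H.mc.r_mem _),
    (hd.r_comm_iff H).2 (by linear_combination hf_mm H.one_le)⟩) e)
  have h1 : f z = u (hf k) 0 ∨ f z = u 0 (hf k) := by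
    rw [e1]
    exact B.inv_cases (by rw [← e1, ← hf'.map_mul hz hz, H.z_sq, hf'.map_one])
      (fun c => H.z_ne_one ((hf'.eq_one_iff hz).1 (e1.trans c))) fun c => e (e1.trans c)
  have h3 : ∀ x ∈ CS S g, f x ∈ CS S (u (hf k) 0) := fun x hx =>
    mem_C_of B (hf'.mem hx) h1 ((hf'.commute_iff hz hx).2 (H.z_comm (CS_le hx)))
  obtain rfl : a = 1 := hpm.resolve_right fun h => n2 _ (h3 _ hP) _ (h ▸ ha)
  obtain ⟨p, q, h⟩ := n3 _ (hf'.mem hP) _ ha
  obtain ⟨α, hα, -, h5⟩ := B.exists_alpha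
  have hm := mor_totA CS_le hα
  have m1 := hm.comp hf' h3
  have e2 : totA α (u 0 (hf k)) = z := by rw [h5, neg_zero, zero_sub, neg_hf, ← B.z_eq]
  rcases h1 with h1 | h1
  · exact lemma_two B n1 n2 h2 hd hc (hm.comp m1 fun x hx => totA_mem α (h3 x hx)) hP hz hx
      (by rw [h1, h5, neg_hf, sub_zero, e2]) (by rw [h, h5, h5])
  · exact lemma_two B n1 n2 h2 hd hc m1 hP hz hx (by rw [h1, e2]) (by rw [h, h5])

end B3

theorem Bd.act_pm (B : Bd F K k r s z W u w) (hfoc : F.focalSubgroup = S) (hg : g ∈ S)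
    (h : Act r s g a b) : a = 1 ∨ a = -1 := by
  have key : ∀ g ∈ CS S (u (hf k) 0), ∀ a b, Act r s g a b → a = 1 ∨ a = -1 := by
    intro g hg a b h
    by_contra hne
    obtain ⟨n, hn⟩ := B.hy.pg ⟨g, CS_le hg⟩
    obtain ⟨g, hg, a, b, h, rfl | rfl⟩ := B3.reduce B.hy n hg h (congrArg Subtype.val hn)
      (not_or.1 hne).1 (not_or.1 hne).2
    exacts [B3.case_one B hfoc hg h, B3.case_two B hfoc hg h]
  rcases B.cases hg with c | c
  · exact key g c a b h
  · rcases key _ c _ _ (h.mul (B.act_w 0 0)) with e | e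
    exacts [.inr (by linear_combination -e), .inl (by linear_combination -e)]

end Cfsg.Agent.WQ
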