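import Mathlib
import Cfsg.Agent.WQ.B2

/-! Identification of `S`: wreathed, or the Sylow subgroup `GS k` of `G₂(q)`. -/

set_option autoImplicit false
set_option linter.unusedSectionVars false

namespace Cfsg.Agent.WQ

open Subgroup Cfsg.FusionSystem Cfsg.Agent.Fus Cfsg.Agent.Inv.Fz Cfsg.Agent.G2T

variable {Ω : Type*} [Group Ω] [Finite Ω] {S K W P : Subgroup Ω} {F : FusionSystem S} {k : ℕ}
  {r s : R k → Ω} {u w : R k → R k → Ω} {z t g x y : Ω} {a b : R k} {f : Ω → Ω}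

namespace B4

variable (B : Bd F K k r s z W u w)
include B

theorem u_mul (hg : g ∈ CS S (u (hf k) 0)) (h : Act r s g (-1) b) (x y : R k) :
    u x y * g = g * u (-x) (-y) := by
  rw [← mul_inv_eq_iff_eq_mul.1
    (show g * u (-x) (-y) * g⁻¹ = u x y by simpa using B.scalar hg h (-x) (-y))]

theorem mem_C (hpm : ∀ g ∈ S, ∀ a b, Act r s g a b → a = 1 ∨ a = -1)
    (hg : g ∈ CS S (u (hf k) 0)) (h : Act r s g (-1) b) (hx : x ∈ CS S (u (hf k) 0)) :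
    ∃ p q, x = u p q ∨ x = g * u p q := by
  obtain ⟨c, d, hc⟩ := B.hy.exists_act (CS_le hx)
  rcases hpm _ (CS_le hx) _ _ hc with rfl | rfl
  · obtain ⟨p, q, e⟩ := B.eq_u_of_act hx hc
    exact ⟨p, q, .inl e⟩
  · have := (h.inv (a' := -1) (by ring)).mul hc
    rw [show (-1 : R k) * -1 = 1 by ring] at this
    obtain ⟨p, q, e⟩ := B.eq_u_of_act (mul_mem (inv_mem hg) hx) this
    exact ⟨p, q, .inr (by rw [← e, mul_inv_cancel_left])⟩

/-- An automorphism of `C` in `F` that fixes the base group pointwise moves `g` by a square. -/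
theorem even_of_fix (hpm : ∀ g ∈ S, ∀ a b, Act r s g a b → a = 1 ∨ a = -1)
    (hg : g ∈ CS S (u (hf k) 0)) (h : Act r s g (-1) b) (h2 : g * g = 1)
    {δ : MulAut (CS S (u (hf k) 0))} (hδ : δ ∈ F.autGroup _) (h1 : ∀ x y, totA δ (u x y) = u x y)
    {p q : R k} (h3 : totA δ g = g * u p q) : ∃ n, q = 2 * n := by
  have H := B.hy
  have uC := B.u_mem_C
  have e1 : ∀ n : ℕ, (∀ x y, totA (δ ^ n) (u x y) = u x y) ∧
      totA (δ ^ n) g = g * u (n * p) (n * q) := fun n => by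
    induction n with
    | zero => simp [totA_one (uC _ _), totA_one hg, B.wr.u_zero]
    | succ n ih =>
      refine ⟨fun x y => by rw [pow_succ δ, totA_mul _ _ (uC _ _), h1, ih.1], ?_⟩
      rw [pow_succ δ, totA_mul _ _ hg, h3, mulOn_totA _ _ hg _ (uC _ _), ih.1, ih.2, mul_assoc,
        B.wr.uu]
      push_cast
      rw [add_mul, add_mul, one_mul, one_mul]
  have e2 : δ ^ 2 ^ (k + 2) = 1 := mulAut_ext_totA fun x hx => by
    rw [totA_one hx]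
    obtain ⟨p, q, rfl | rfl⟩ := mem_C B hpm hg h hx
    · exact (e1 _).1 p q
    · rw [mulOn_totA _ _ hg _ (uC _ _), (e1 _).1, (e1 _).2, ZMod.natCast_self, zero_mul, zero_mul,
        B.wr.u_zero, mul_one]
  obtain ⟨χ, -, hχ⟩ := (H.sat.fullyAutomized H.pg (F.isFullyNormalized_of_le_normalizer CS_le
    fun g hg => mem_normalizer_fintype fun x hx => B.conj_mem_C hg hx)).exists_conj H.pg
    (isPGroup_zpowers_of_pow e2) (zpowers_le.2 hδ)
  obtain ⟨c, hc, e3⟩ := mem_autInducedBy.1 (hχ δ (mem_zpowers δ))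
  have e4 : ∀ x ∈ CS S (u (hf k) 0), totA χ (totA δ (totA χ⁻¹ x)) = c * x * c⁻¹ := fun x hx => by
    rw [← totA_mul _ _ hx, ← totA_mul _ _ hx, ← mul_assoc, totA_apply _ hx, e3]
  have e5 : ∀ x y, 2 * x ≠ 0 ∨ 2 * y ≠ 0 → c * u x y = u x y * c := fun x y hne => by
    rw [← mul_inv_eq_iff_eq_mul, ← e4 _ (uC x y)]
    obtain ⟨p, q, e | e⟩ := mem_C B hpm hg h (totA_mem χ⁻¹ (uC x y))
    · rw [e, h1, ← e, totA_totA_inv _ (uC x y)]
    · have := mulOn_totA χ _ (totA_mem χ⁻¹ (uC x y)) _ (totA_mem χ⁻¹ (uC x y))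
      rw [totA_totA_inv _ (uC x y), e, mul_assoc, ← mul_assoc _ g, u_mul B hg h, mul_assoc,
        B.wr.uu, neg_add_cancel, neg_add_cancel, B.wr.u_zero, mul_one, h2, (mulOn_totA χ).map_one,
        B.wr.uu, eq_comm, B.wr.u_eq_one, ← two_mul, ← two_mul] at this
      exact (hne.elim (· this.1) (· this.2)).elim
  obtain ⟨x, y, rfl⟩ := B.self_cent hc (e5 1 0 (.inl (by simpa using G2T.two_ne_zero')))
    (e5 0 1 (.inr (by simpa using G2T.two_ne_zero')))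
  have e6 := congrArg (totA χ⁻¹) (e4 _ (totA_mem χ hg))
  rw [totA_inv_totA _ hg, totA_inv_totA _ (totA_mem δ hg), h3,
    (mulOn_totA χ⁻¹).map_conj (uC x y) (totA_mem χ hg), totA_inv_totA _ hg] at e6
  obtain ⟨c, d, e | e⟩ := mem_C B hpm hg h (totA_mem χ⁻¹ (uC x y)) <;> rw [e] at e6
  · rw [u_mul B hg h, B.wr.u_inv, mul_assoc, B.wr.uu, mul_right_inj, B.wr.u_eq] at e6
    exact ⟨-d, by linear_combination e6.2⟩
  · rw [mul_assoc g, u_mul B hg h, ← mul_assoc, h2, one_mul, mul_inv_rev, B.wr.u_inv, ← mul_assoc,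
      B.wr.uu, inv_eq_of_mul_eq_one_right h2, u_mul B hg h, mul_right_inj, B.wr.u_eq] at e6
    exact ⟨d, by linear_combination e6.2⟩

theorem exists_inv (hpm : ∀ g ∈ S, ∀ a b, Act r s g a b → a = 1 ∨ a = -1)
    (hg : g ∈ CS S (u (hf k) 0)) (h : Act r s g (-1) b) :
    ∃ g ∈ CS S (u (hf k) 0), (∃ b, Act r s g (-1) b) ∧ g * g = 1 ∧ w 0 0 * g = g * w 0 0 ∧
      ∃ f, F.Mor (CS S (u (hf k) 0)) f ∧ (∀ x y, f (u x y) = u y (-x - y)) ∧ f g = g := by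
  have H := B.hy
  have uC := B.u_mem_C
  obtain ⟨α, hα, -, ha⟩ := B.exists_alpha
  obtain ⟨p, q, e⟩ := B.exists_fix ha hg
  have hg' := mul_mem hg (uC p q)
  have h' := h.mul (B.act_u p q)
  rw [mul_one] at h'
  generalize g * u p q = g at e hg' h'
  have h2 := B.sq_of_fix ha hg' e h' (by ring)
  have hw := B.w_mem_S 0 0
  have ww : w 0 0 * w 0 0 = 1 := by rw [B.wr.ww, add_zero, B.wr.u_zero]
  obtain ⟨m, m', e1 | e1⟩ := mem_C B hpm hg' h' (B.conj_mem_C hw hg')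
  · have := (((B.act_w 0 0).mul h').mul ((B.act_w 0 0).inv (a' := -1) (by ring))).unique H
      (e1 ▸ B.act_u m m')
    exact (G2T.two_ne_zero' (k := k) (by linear_combination -this.1)).elim
  have e2 : ∀ x y, w 0 0 * (g * u x y) * (w 0 0)⁻¹ = g * u (m + y) (m' + x) := fun x y => by
    rw [← B.wr.uu, ← mul_assoc g, ← e1, ← B.wr.conj_wu 0 0 x]; group
  obtain rfl : m' = -m := by
    have := e2 m m'
    rw [← e1, show w 0 0 * (w 0 0 * g * (w 0 0)⁻¹) * (w 0 0)⁻¹ =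
      w 0 0 * w 0 0 * g * (w 0 0 * w 0 0)⁻¹ by group, ww, one_mul, inv_one, mul_one,
      left_eq_mul, B.wr.u_eq_one] at this
    linear_combination this.1
  have hm := mor_totA CS_le hα
  have m1 := hm.comp (F.mor_conj CS_le hw) fun x hx => B.conj_mem_C hw hx
  have c1 : ∀ x ∈ CS S (u (hf k) 0), totA α (w 0 0 * x * (w 0 0)⁻¹) ∈ CS S (u (hf k) 0) :=
    fun x hx => totA_mem α (B.conj_mem_C hw hx)
  obtain ⟨δ, hδ, e3⟩ := ((m1.comp m1 c1).iso_self fun x hx => c1 _ (c1 x hx)).exists_aut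
  obtain ⟨n, rfl⟩ := even_of_fix B hpm hg' h' h2 hδ (p := -m - m) (q := m) (fun x y => by
    rw [e3 _ (uC x y), B.wr.conj_wu, ha, B.wr.conj_wu, ha]; congr 1; ring) (by
    rw [e3 _ hg', e1, hm.map_mul hg' (uC _ _), e, ha, e2, hm.map_mul hg' (uC _ _), e, ha]
    congr 2 <;> ring)
  have hn := B.u_mem_S (-n) 0
  have e4 : u (-n) 0 * g * (u (-n) 0)⁻¹ = g * u (2 * n) 0 := by
    rw [u_mul B hg' h', B.wr.u_inv, mul_assoc, B.wr.uu]; congr 2 <;> ring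
  refine ⟨_, B.conj_mem_C hn hg', ⟨_, by
    simpa using ((B.act_u (-n) 0).mul h').mul ((B.act_u (-n) 0).inv (mul_one 1))⟩,
    by rw [conj_mul, h2]; group, ?_, _, (hm.comp (F.mor_conj' CS_le hn) fun x hx => by
      simpa using B.conj_mem_C (inv_mem hn) hx).conj_comp hn, fun x y => ?_, ?_⟩
  · rw [← mul_inv_eq_iff_eq_mul, e4, e2]; congr 2 <;> ring
  · rw [mul_assoc _ (u x y), B.wr.uu_comm, inv_mul_cancel_left, ha, B.wr.conj_uu]
  · rw [show (u (-n) 0)⁻¹ * (u (-n) 0 * g * (u (-n) 0)⁻¹) * u (-n) 0 = g by group, e]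

end B4

theorem Bd.concl (B : Bd F K k r s z W u w) (hfoc : F.focalSubgroup = S)
    (hpm : ∀ g ∈ S, ∀ a b, Act r s g a b → a = 1 ∨ a = -1) :
    W = S ∨ ∃ ι : GS k →* Ω, GD F ι := by
  have H := B.hy
  have gen : ∀ Q : Subgroup Ω, w 0 0 ∈ Q → CS S (u (hf k) 0) ≤ Q → S ≤ Q := fun Q h1 h2 g hg =>
    (B.cases hg).elim (h2 ·) fun c => (mul_mem_cancel_right h1).1 (h2 c)
  by_cases hex : ∃ g ∈ CS S (u (hf k) 0), ∃ b, Act r s g (-1) b
  swap
  · refine .inl (le_antisymm B.le (gen W (B.wr.w_mem 0 0) fun g hg => ?_))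
    obtain ⟨a, b, h⟩ := H.exists_act (CS_le hg)
    obtain rfl : a = 1 := (hpm g (CS_le hg) a b h).resolve_right fun e => hex ⟨g, hg, b, e ▸ h⟩
    obtain ⟨x, y, rfl⟩ := B.eq_u_of_act hg h
    exact B.wr.u_mem x y
  obtain ⟨g, hg, b, h⟩ := hex
  obtain ⟨g, hg, ⟨b, h⟩, h2, hw, f, hf', f1, f2⟩ := B4.exists_inv B hpm hg h
  obtain ⟨ι, i1, i2, i3, i4, -⟩ := GS.Rel.exists_hom (k := k) (a := u 1 0) (b := u 0 1)
    ⟨by rw [B.wr.u_pow, ZMod.natCast_self, zero_mul, zero_mul, B.wr.u_zero], B.wr.uu_comm _ _ _ _,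
      by rw [B.wr.ww, add_zero, B.wr.u_zero], h2, hw, by simp [B.wr.wu, B.wr.uw],
      by rw [B.wr.u_inv, B4.u_mul B hg h, neg_neg, neg_neg]⟩
  have io : ∀ x y, ι (GS.o x y) = u x y := fun x y => by
    have : GS.o x y = GS.o 1 0 ^ x.val * GS.o 0 1 ^ y.val := by simp [GS.o_pow]
    rw [this, map_mul, map_pow, map_pow, i1, i2, B.wr.u_pow, B.wr.u_pow, B.wr.uu]
    simp
  have it : ∀ x y, ι (GS.t x y) = w x y := fun x y => by
    rw [show GS.t x y = GS.o x y * GS.t 0 0 by simp, map_mul, io, i3, B.wr.uw, add_zero, add_zero]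
  have iu : ∀ x y, ι (GS.u x y) = u x y * g := fun x y => by
    rw [show GS.u x y = GS.o x y * GS.u 0 0 by simp, map_mul, io, i4]
  have iz : ι (GS.z k) = z := (io _ _).trans B.z_eq.symm
  refine .inr ⟨ι, H.sat, GS.injective_of_z ι (iz ▸ H.z_ne_one), le_antisymm ?_
    (gen _ ⟨_, i3⟩ fun x hx => ?_), fun P f hf' h1 h3 x hx h4 => ?_,
    ⟨f, hf'.mono ?_, fun x y => by rw [io, io, f1], by rw [i4, f2]⟩, hfoc⟩
  · rintro _ ⟨⟨x, y⟩ | ⟨x, y⟩ | ⟨x, y⟩ | ⟨x, y⟩, rfl⟩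
    · exact io x y ▸ B.u_mem_S x y
    · exact it x y ▸ B.w_mem_S x y
    · exact iu x y ▸ mul_mem (B.u_mem_S x y) (CS_le hg)
    · rw [show GS.v x y = GS.t x y * GS.u 0 0 by simp, map_mul, it, i4]
      exact mul_mem (B.w_mem_S x y) (CS_le hg)
  · obtain ⟨p, q, rfl | rfl⟩ := B4.mem_C B hpm hg h hx
    exacts [⟨_, io p q⟩, mul_mem ⟨_, i4⟩ ⟨_, io p q⟩]
  · rw [iz] at h1 h3
    obtain ⟨i, e | e⟩ := H.mc.cases ((H.scz hf' h1 h3 h4).2 (by
      rcases GS.Q2_cases hx with ⟨c, rfl⟩ | ⟨c, rfl⟩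
      · rw [io, ← B.hr]; exact H.mc.r_mem c
      · rw [it, show -c = hf k - (c + hf k) by ring, ← B.hs]; exact H.mc.s_mem _))
    · exact ⟨GS.o i (-i), by simp, by rw [e, io, B.hr]⟩
    · exact ⟨GS.t i (hf k - i), by simp, by rw [e, it, B.hs]⟩
  · rintro _ ⟨c, hc, rfl⟩
    obtain ⟨x, y, rfl | rfl⟩ := mem_CC.1 hc
    · exact io x y ▸ B.u_mem_C x y
    · exact iu x y ▸ mul_mem (B.u_mem_C x y) hg

end Cfsg.Agent.WQ
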