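import Mathlib
import Cfsg.Agent.WQ.Pair
import Cfsg.Agent.FG.ZLPar

/-! All conjugates of `z` act with centralizer `⟨z⟩`: a strongly closed quasi-dihedral group. -/

set_option autoImplicit false
set_option linter.unusedSectionVars false

namespace Cfsg.Agent.WQ

open Subgroup Cfsg.FusionSystem Cfsg.Agent.Fus Cfsg.Agent.Inv.Fz Cfsg.Agent.G2T

variable {Ω : Type*} [Group Ω] [Finite Ω] {S K W P : Subgroup Ω} {F : FusionSystem S} {k : ℕ}
  {r s : R k → Ω} {u w : R k → R k → Ω} {z t g x y : Ω} {a b : R k} {f : Ω → Ω}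

namespace CaseA

theorem one_ne_neg : (1 : R k) ≠ -1 := fun e => two_ne_zero' (k := k) (by linear_combination e)

theorem ti (H : Hy F K k r s z) (h : ∀ t, Pr F z t → TI r s t) (t : Ω) (ht : Cj F z t) (hne : t ≠ z) :
    TI r s t := by
  by_contra hn
  obtain ⟨x, hx, xx, c⟩ := H.exists_fix_of_not_TI ht.mem (H.cj_sq ht) hn
  obtain ⟨f, hf, fz, pr⟩ := H.exists_pr ht hne
  have xC : x ∈ CS S t := mem_CS.2 ⟨H.le hx, c⟩
  have h1 := H.eq_of_TI (h _ pr) ((H.scz hf (H.mem_CS_z ht.mem) fz xC).2 hx)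
    ((hf.commute_iff (self_mem_CS ht.mem) xC).2 c)
  rw [← xx, hf.map_mul xC xC, xx] at fz
  refine H.z_ne_one (fz.symm.trans ?_)
  rcases h1 with e | e <;> rw [e]
  exacts [mul_one _, H.z_sq]

variable (H : Hy F K k r s z) (h : ∀ t, Cj F z t → t ≠ z → TI r s t)
include H h

theorem e5 (ht : Cj F z t) (hne : t ≠ z) (hy : y ∈ S) (c : t * y = y * t) (h1 : Cj F z (t * y))
    (h2 : Cj F z (t * y * z)) : y = 1 ∨ y = z := by
  by_contra! hn
  obtain ⟨f, hf, e⟩ := H.cj_ext ht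
  have tC := self_mem_CS ht.mem
  have yC := mul_mem tC (mem_CS.2 ⟨hy, c⟩)
  have zC := H.mem_CS_z ht.mem
  have key : ∀ g ∈ CS S t, Cj F z g → g ≠ t → TI r s (f g) := fun g hg cg n =>
    h _ (cg.map hf hg) fun e' => n (hf.inj hg tC (e'.trans e.symm))
  obtain ⟨b1, -, a1⟩ := key _ yC h1 (by simpa using hn.1)
  obtain ⟨b2, -, a2⟩ := key _ zC H.cj_z hne.symm
  obtain ⟨b3, -, a3⟩ := key _ (mul_mem yC zC) h2 fun e' => hn.2 (by
    rw [mul_assoc, mul_eq_left] at e'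
    exact mul_right_cancel (e'.trans H.z_sq.symm))
  rw [hf.map_mul yC zC] at a3
  exact one_ne_neg (by simpa using ((a1.mul a2).unique H a3).1)

omit [Finite Ω] H h in
theorem tr (a : Act r s t (-1) b) (i : R k) : t * r i = r (-i) * t := by
  rw [← neg_one_mul, ← a.1, inv_mul_cancel_right]

omit [Finite Ω] H h in
theorem ev_add {i j : R k} (hi : Ev i) (hj : Ev j) : Ev (i + j) := by
  rw [Ev, mul_add, show hf k * i = 0 from hi, show hf k * j = 0 from hj, add_zero]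

omit h in
theorem cj_r (ht : Cj F z t) (a : Act r s t (-1) b) {i : R k} (hi : Ev i) : Cj F z (t * r i) := by
  obtain ⟨j, rfl⟩ := ev_iff.1 hi
  have e : r (-j) * t * (r (-j))⁻¹ = t * r (2 * j) := by
    rw [← tr a, H.mc.r_inv, neg_neg, mul_assoc, H.mc.rr, two_mul]
  exact e ▸ ht.conj (H.le (H.mc.r_mem _))

theorem two (ht : Cj F z t) (hne : t ≠ z) (hy : y ∈ S) (a : Act r s y 1 0) (h1 : Cj F z (t * y)) :
    y = 1 ∨ y = z := by
  obtain ⟨n, hn⟩ := H.pg ⟨y, hy⟩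
  replace hn : y ^ 2 ^ n = 1 := congrArg Subtype.val hn
  obtain ⟨b, -, at'⟩ := h t ht hne
  induction n generalizing y with
  | zero => exact .inl (by simpa using hn)
  | succ n ih =>
    have e : t * y = y⁻¹ * t := by
      rw [← inv_eq_of_mul_eq_one_left (H.cj_sq h1), mul_inv_rev, inv_eq_of_mul_eq_one_left (H.cj_sq ht)]
    have ay : Act r s (t * y) (-1) b := by simpa using at'.mul a
    have cr : ∀ i, y * r i = r i * y := fun i => H.act_iff_comm.1 a _ (H.mc.r_mem i)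
    rcases ih (mul_mem hy hy) (by simpa using a.mul a)
      (by simpa [← mul_assoc, e] using ht.conj (inv_mem hy)) (by rwa [← pow_two, ← pow_mul, ← pow_succ']) with e1 | e1
    · exact e5 H h ht hne hy (by rw [e, inv_eq_of_mul_eq_one_left e1]) h1 (H.hz ▸ cj_r H h1 ay ev_hf)
    have em := ev_mm H.one_le
    have e2 : y * r (mm k) * (y * r (mm k)) = 1 := by
      rw [(show Commute (r (mm k)) y from (cr _).symm).mul_mul_mul_comm, e1, H.r_mm_sq, H.z_sq]
    have h2 := e5 H h ht hne (mul_mem hy (H.le (H.mc.r_mem (mm k)))) (by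
        rw [← mul_assoc, e, mul_assoc, tr at', ← H.mc.r_inv, ← mul_assoc, ← mul_inv_rev, ← cr,
          inv_eq_of_mul_eq_one_left e2]) (mul_assoc t y _ ▸ cj_r H h1 ay em) (by
        have := cj_r H h1 ay (ev_add em ev_hf)
        rwa [← H.mc.rr, H.hz, ← mul_assoc, mul_assoc t] at this)
    have h3 := (show Act r s (y * r (mm k)) 1 (hf k) by simpa [two_mm] using a.mul (H.act_r (mm k)))
    rcases h2 with e' | e' <;> rw [e'] at h3
    · exact absurd (h3.unique H act_one).2 hf_ne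
    · exact absurd (h3.unique H (H.act_iff_comm.2 fun x hx => H.z_comm (H.le hx))).2 hf_ne

theorem cj_mem (ht : Cj F z t) (hne : t ≠ z) (hg : Cj F z g) : g ∈ K ⊔ zpowers t := by
  have mK : ∀ {x}, x ∈ K → x ∈ K ⊔ zpowers t := mem_sup_left
  obtain ⟨b, hb, a⟩ := h t ht hne
  have tt := H.cj_sq ht
  have k1 : ∀ g, Cj F z g → Act r s g (-1) b → g ∈ K ⊔ zpowers t := fun g hg a' => by
    have e : t * (t * g) = g := by rw [← mul_assoc, tt, one_mul]
    rw [← e]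
    refine mul_mem (mem_sup_right (mem_zpowers t)) ?_
    rcases two H h ht hne (mul_mem ht.mem hg.mem) (by simpa using a.mul a') (e.symm ▸ hg) with e' | e' <;> rw [e']
    exacts [one_mem _, mK H.z_mem]
  have k2 : ∀ g, ∀ x ∈ K, x * g * x⁻¹ ∈ K ⊔ zpowers t → g ∈ K ⊔ zpowers t := fun g x hx e =>
    (mul_mem_cancel_left (mK hx)).1 ((mul_mem_cancel_right (inv_mem (mK hx))).1 e)
  have k3 : ∀ g, Cj F z g → ∀ j, Act r s g (-1) (b - 4 * j) → g ∈ K ⊔ zpowers t := fun g hg j a' =>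
    k2 g _ (H.mc.r_mem j) (k1 _ (hg.conj (H.le (H.mc.r_mem j))) (by
      convert ((H.act_r j).mul a').mul ((H.act_r j).inv (mul_one _)) using 1 <;> ring))
  by_cases e : g = z
  · exact e ▸ mK H.z_mem
  obtain ⟨b', hb', a'⟩ := h g hg e
  obtain ⟨c, rfl⟩ := not_ev_iff.1 hb
  obtain ⟨c', rfl⟩ := not_ev_iff.1 hb'
  obtain ⟨j, e | e⟩ := r2_even_or_odd (c - c')
  · exact k3 g hg j (by convert a' using 1; linear_combination 2 * e)
  · refine k2 g _ (H.mc.s_mem 0) (k3 _ (hg.conj (H.le (H.mc.s_mem 0))) (j + c' + 1) ?_)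
    convert ((H.act_s 0).mul a').mul ((H.act_s 0).inv (a' := -1) (by ring)) using 1
    · ring
    · linear_combination 2 * e

omit h in
theorem pow_odd {j : R k} (hj : ¬ Ev j) : r j ^ 2 ^ (k + 1) = z := by
  obtain ⟨c, rfl⟩ := not_ev_iff.1 hj
  rw [H.mc.r_pow, ← H.hz, Nat.cast_pow, Nat.cast_ofNat]
  exact congrArg r (hh_mul_odd c)

omit H h in
theorem pow_two_pow (g : Ω) (n : ℕ) : g ^ 2 ^ (n + 1) = (g * g) ^ 2 ^ n := by
  rw [pow_succ', pow_mul, pow_two]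

omit h in
theorem sq_ts (a : Act r s t (-1) b) (tt : t * t = 1) (i : R k) : t * s i * (t * s i) = r (2 * (mm k - i) + b) := by
  calc _ = t * s i * t⁻¹ * (t * t) * s i := by group
    _ = _ := by rw [tt, mul_one, a.2, H.mc.ss, ← two_mm]; congr 1; ring

omit [Finite Ω] H h in
theorem odd_add (hb : ¬ Ev b) (i : R k) : ¬ Ev (2 * i + b) := by
  obtain ⟨c, rfl⟩ := not_ev_iff.1 hb
  exact not_ev_iff.2 ⟨i + c, by ring⟩

theorem quasi (ht : Cj F z t) (hne : t ≠ z) : IsQuasiDihedral (K ⊔ zpowers t : Subgroup Ω) := by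
  obtain ⟨b, hb, a⟩ := h t ht hne
  have tt := H.cj_sq ht
  have mt : t ∈ K ⊔ zpowers t := mem_sup_right (mem_zpowers t)
  have e : (t * s 0) ^ 2 ^ (k + 2) = z := by
    rw [pow_two_pow, sq_ts H a tt, pow_odd H (odd_add hb _)]
  refine ⟨k + 3, by omega, ?_, ⟨t * s 0, mul_mem mt (mem_sup_left (H.mc.s_mem 0))⟩, ⟨t, mt⟩, ?_, ?_, Subtype.ext ?_⟩
  · rw [FG.ZL.card_ext (mem_normalizer_fintype fun x hx => H.conj_mem ht.mem hx) (tt ▸ one_mem _)
      (H.cj_notMem ht hne), H.mc.card]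
    ring
  · rw [orderOf_mk]
    exact orderOf_eq_prime_pow (e ▸ H.z_ne_one) (by
      rw [pow_two_pow, (Commute.refl _).mul_pow, e, H.z_sq])
  · rw [orderOf_mk]
    exact orderOf_eq_prime (by rw [pow_two, tt]) (H.cj_ne_one ht)
  · show t * (t * s 0) * t⁻¹ = (t * s 0) ^ (2 ^ (k + 2) - 1)
    rw [pow_sub _ Nat.one_le_two_pow, e, ← H.s_sq 0, ← mul_assoc, tt]
    group

/-- A map defined on an element of `K` of order at least four fixes `z`. -/
theorem fix_z (hf : F.Mor P f) (hx : x ∈ P) (hK : x ∈ K) (h2 : x * x ≠ 1) : z ∈ P ∧ f z = z := by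
  obtain ⟨n, e⟩ := H.exists_pow_eq_z (mul_mem hK hK) h2
  rw [(Commute.refl x).mul_pow] at e
  have hz : z ∈ P := e ▸ mul_mem (pow_mem hx n) (pow_mem hx n)
  refine ⟨hz, by_contra fun hn => ?_⟩
  obtain ⟨b, -, a⟩ := h _ (H.cj_z.map hf hz) hn
  exact one_ne_neg ((H.act_of_sq (H.cj_z.map hf hz) hn
    ((H.map_mem_Rt H.cj_z hf hz (pow_mem hx n)).2 (H.Rt_z.symm ▸ pow_mem hK n))
    (by rw [← hf.map_mul (pow_mem hx n) (pow_mem hx n), e])).unique H a).1

omit h in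
theorem nrm (hg : g ∈ S) {j : R k} (hj : ¬ Ev j) (e : g * g = r j) : K ≤ normalizerIn S (zpowers g) := by
  obtain ⟨a, b, ha⟩ := H.exists_act hg
  obtain ⟨c, rfl⟩ := not_ev_iff.1 hj
  obtain ⟨d, hd⟩ := exists_mul_odd c
  obtain rfl : a = 1 := by
    have := (ha.r_comm_iff H).1 (show g * r (2 * c + 1) = _ by rw [← e, mul_assoc])
    linear_combination d * this - (a - 1) * hd
  intro x hx
  refine mem_normalizerIn.2 ⟨H.le hx, mem_normalizer_fintype fun y hy => ?_⟩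
  obtain ⟨n, rfl⟩ := mem_zpowers_iff.1 hy
  rw [← conj_zpow]
  refine zpow_mem ?_ n
  obtain ⟨i, rfl | rfl⟩ := H.mc.cases hx
  · rw [← (ha.r_comm_iff H).2 (one_mul i), mul_inv_cancel_right]
    exact mem_zpowers g
  · have h1 := (ha.inv (mul_one _)).2 i
    rw [show s i * g * (s i)⁻¹ = g * (g⁻¹ * s i * g⁻¹⁻¹ * (s i)⁻¹) by group, h1, H.mc.s_mul_inv]
    refine mul_mem (mem_zpowers g) ?_
    rw [← one_mul (_ - i), ← hd, mul_assoc]
    exact H.mc.r_mul_mem (e ▸ mul_mem (mem_zpowers g) (mem_zpowers g)) _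

theorem map_ts (ht : Cj F z t) (hne : t ≠ z) (hf : F.Mor P f) {i : R k} (hg : t * s i ∈ P) :
    f (t * s i) ∈ K ⊔ zpowers t := by
  obtain ⟨b, hb, a⟩ := h t ht hne
  have e := sq_ts H a (H.cj_sq ht) i
  have ho := odd_add hb (mm k - i)
  generalize 2 * (mm k - i) + b = j at e ho
  have et : t = t * s i * (s i)⁻¹ := (mul_inv_cancel_right _ _).symm
  generalize t * s i = g at hg e et
  have hj : r j ∈ P := e ▸ mul_mem hg hg
  have j4 : r j * r j ≠ z := fun e' => by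
    rw [← H.hz, H.mc.rr, H.mc.r_eq, ← two_mul, two_eq_hf] at e'
    have := ev_mm H.one_le
    rcases e' with rfl | rfl
    exacts [ho this, ho (by rw [Ev, mul_neg, show G2T.hf k * mm k = 0 from this, neg_zero])]
  obtain ⟨hz, fz⟩ := fix_z H h hf hj (H.mc.r_mem j) fun e' => H.z_ne_one (by
    rw [← pow_odd H ho, pow_two_pow, e', one_pow])
  obtain ⟨j', ho', e'⟩ : ∃ j', ¬ Ev j' ∧ f g * f g = r j' := by
    rw [← hf.map_mul hg hg, e]
    obtain ⟨j', e' | e'⟩ := H.mc.cases ((H.scz hf hz fz hj).2 (H.mc.r_mem j))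
    · refine ⟨j', fun ev => H.z_ne_one ?_, e'⟩
      rw [← fz, ← pow_odd H ho, hf.map_pow hj, e', H.mc.r_pow, H.mc.r_eq_one, Nat.cast_pow, Nat.cast_ofNat]
      exact ev
    · exact absurd (hf.inj (mul_mem hj hj) hz (by rw [hf.map_mul hj hj, e', H.s_sq, fz])) j4
  have gS := hf.le hg
  have hS := hf.mem hg
  have n1 := nrm H gS ho e
  have n2 := nrm H hS ho' e'
  have l1 : zpowers g ≤ _ := le_normalizerIn ((zpowers_le).2 gS)
  have l2 : zpowers (f g) ≤ _ := le_normalizerIn ((zpowers_le).2 hS)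
  have c : F.IsConj (zpowers (f g)) (zpowers g) := by
    have hf' := hf.mono ((zpowers_le).2 hg)
    refine (show img f (zpowers g) = zpowers (f g) from le_antisymm (img_le_iff.2 fun y hy => ?_)
      ((zpowers_le).2 (mem_img_of_mem (mem_zpowers g)))) ▸ hf'.isConj_img.symm
    obtain ⟨n, rfl⟩ := mem_zpowers_iff.1 hy
    exact hf.map_zpow hg n ▸ zpow_mem (mem_zpowers _) n
  obtain ⟨Q, cQ, fQ⟩ := F.exists_isConj_fullyNormalized ((zpowers_le).2 gS)
  obtain ⟨p, hp, ep⟩ := H.sat.exists_mor_normalizerIn' H.pg fQ cQ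
  obtain ⟨q, hq, eq⟩ := H.sat.exists_mor_normalizerIn' H.pg fQ (c.trans cQ)
  obtain ⟨y, hy, e1⟩ := (hq.mem_img l2).1 (eq.symm ▸ ep ▸ mem_img_of_mem (mem_zpowers g) : p g ∈ _)
  obtain ⟨y', hy', e2⟩ := (hp.mem_img l1).1 (ep.symm ▸ eq ▸ mem_img_of_mem (mem_zpowers _) : q (f g) ∈ _)
  obtain ⟨n, rfl⟩ := mem_zpowers_iff.1 hy'
  obtain ⟨x, hx, e3⟩ := ((hq.mono n2).iso_self (H.wc q (hq.mono n2))).surj _ (H.wc p (hp.mono n1) _ (H.mc.s_mem i))
  have g1 := l1 (mem_zpowers g)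
  have s1 := n1 (H.mc.s_mem i)
  have h1 : Cj F z (y * x⁻¹) := Cj.of_map hq (mul_mem (l2 hy) (inv_mem (n2 hx))) (by
    rw [hq.map_mul (l2 hy) (inv_mem (n2 hx)), hq.map_inv (n2 hx), e1, e3, ← hp.map_inv s1,
      ← hp.map_mul g1 (inv_mem s1), ← et]
    exact ht.map hp (et ▸ mul_mem g1 (inv_mem s1)))
  rw [hq.inj (l2 (mem_zpowers _)) (zpow_mem (l2 hy) n) (by rw [← e2, hp.map_zpow g1, hq.map_zpow (l2 hy), e1])]
  exact zpow_mem ((mul_mem_cancel_right (inv_mem (mem_sup_left hx))).1 (cj_mem H h ht hne h1)) n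

end CaseA

open CaseA

theorem Hy.caseA (H : Hy F K k r s z) (h : ∀ t, Pr F z t → TI r s t) (ht : Cj F z t)
    (hne : t ≠ z) : ∃ D : Subgroup Ω, D ≤ S ∧ IsQuasiDihedral D ∧ F.StronglyClosed D := by
  have h' := ti H h
  have le : K ⊔ zpowers t ≤ S := sup_le H.le ((zpowers_le).2 ht.mem)
  have tt := H.cj_sq ht
  refine ⟨_, le, quasi H h' ht hne, stronglyClosed_iff.2 ⟨le, fun P f hf g hg hD => ?_⟩⟩
  rcases (FG.ZL.mem_ext (mem_normalizer_fintype fun x hx => H.conj_mem ht.mem hx) (tt ▸ one_mem _)).1 hD with hK | hK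
  · by_cases g2 : g * g = 1
    · by_cases g1 : g = 1
      · rw [g1, hf.map_one]; exact one_mem _
      · obtain rfl := H.eq_z hK g2 g1
        exact cj_mem H h' ht hne (H.cj_z.map hf hg)
    · obtain ⟨hz, fz⟩ := fix_z H h' hf hg hK g2
      exact mem_sup_left ((H.scz hf hz fz hg).2 hK)
  obtain ⟨i, e⟩ := H.mc.cases hK
  have e' : g = t * (t * g) := by rw [← mul_assoc, tt, one_mul]
  rcases e with e | e <;> rw [e] at e' <;> subst e'
  · refine cj_mem H h' ht hne (Cj.map ?_ hf hg)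
    obtain ⟨b, hb, a⟩ := h' t ht hne
    by_cases hi : Ev i
    · exact cj_r H ht a hi
    have e1 : t * s 0 * t * (t * s 0)⁻¹ = t * r (-b) := by
      calc _ = t * s 0 * t⁻¹ * (t * t) * (s 0)⁻¹ * t⁻¹ := by group
        _ = _ := by rw [tt, mul_one, a.2, H.mc.s_mul_inv, tr a, inv_eq_of_mul_eq_one_left tt]; simp
    obtain ⟨c, rfl⟩ := not_ev_iff.1 hb
    obtain ⟨d, rfl⟩ := not_ev_iff.1 hi
    have h1 := cj_r H (e1 ▸ ht.conj (mul_mem ht.mem (H.le (H.mc.s_mem 0))))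
      (by simpa using a.mul (H.act_r (-(2 * c + 1)))) (ev_two_mul (c + d + 1))
    rwa [mul_assoc, H.mc.rr, show -(2 * c + 1) + 2 * (c + d + 1) = 2 * d + 1 by ring] at h1
  · exact map_ts H h' ht hne hf hg

end Cfsg.Agent.WQ
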