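import Mathlib
import Cfsg.Agent.WQ.Defs

/-! Essential subgroups of the 2-group of type `G₂(q)`: none is elementary abelian, and only `CC k`
has an automorphism moving `z`. -/

set_option autoImplicit false
set_option linter.unusedVariables false

namespace Cfsg.Agent.WQ

open Subgroup Cfsg.FusionSystem Cfsg.Agent.Fus Cfsg.Agent.Inv.Fz Cfsg.Agent.G2T

namespace G1a

/-- A transvection `x ↦ x` or `x p` whose fixed points contain `γ p`. -/
theorem tr {Ω : Type*} [Group Ω] [Finite Ω] {S E : Subgroup Ω} {F : FusionSystem S}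
    {H : Subgroup (MulAut E)} (hS : IsPGroup 2 S) (h : F.EssData 2 E H) {s p : Ω} (hs : s ∈ S)
    (hsE : s ∉ E) (hp : p ∈ E) (sp : p * s = s * p)
    (hc : ∀ x ∈ E, s * x * s⁻¹ = x ∨ s * x * s⁻¹ = x * p) {γ : MulAut E} (hγ : γ ∈ F.autGroup E)
    (sγ : totA γ p * s = s * totA γ p) : γ ∈ H := by
  have hn : s ∈ normalizer (E : Set Ω) := mem_normalizer_fintype fun x hx =>
    (hc x hx).elim (fun e => e.symm ▸ hx) fun e => e.symm ▸ mul_mem hx hp
  let X : Subgroup Ω := E ⊓ centralizer {s}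
  have mX : ∀ {x}, x ∈ E → x * s = s * x → x ∈ X := fun hx e =>
    ⟨hx, mem_centralizer_singleton_iff.2 e⟩
  have fX : ∀ x ∈ X, x⁻¹ * totA (cAut E s) x = 1 := fun x hx => by
    rw [totA_cAut hn hx.1, ← mem_centralizer_singleton_iff.1 hx.2]; group
  have hYX : zpowers (totA γ p) ≤ X := zpowers_le.2 (mX (totA_mem γ hp) sγ)
  have hj : ∀ x ∈ E, x⁻¹ * totA (γ * cAut E s * γ⁻¹) x ∈ zpowers (totA γ p) := fun x hx => by
    have hx' := totA_mem γ⁻¹ hx
    rw [totA_mul _ _ hx, totA_mul _ _ hx', totA_cAut hn hx']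
    rcases hc _ hx' with e | e
    · rw [e, totA_totA_inv _ hx, inv_mul_cancel]; exact one_mem _
    · rw [e, (mulOn_totA γ).map_mul hx' hp, totA_totA_inv _ hx, inv_mul_cancel_left]
      exact mem_zpowers _
  have anti : ∀ i < 3, [E, X, zpowers (totA γ p)].getD (i + 1) ⊥ ≤
      [E, X, zpowers (totA γ p)].getD i ⊥ := fun i hi => by
    interval_cases i; exacts [inf_le_left, hYX, bot_le]
  refine h.mem_of_pgroup (K := chainStab E (fun i => [E, X, zpowers (totA γ p)].getD i ⊥) 3)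
    ((isPGroup_chainStab (hS.to_le h.le_top) rfl bot_le).to_le inf_le_left)
    (mem_chainStab_of le_rfl anti fun i hi => ?_) (h.cAut_mem ⟨hs, hn⟩)
    (h.cAut_notMem_inn ⟨hs, hn⟩ hsE) hγ (mem_chainStab_of le_rfl anti fun i hi => ?_)
  · interval_cases i
    · intro x hx
      rw [totA_cAut hn hx]
      rcases hc x hx with e | e
      · rw [e, inv_mul_cancel]; exact one_mem _
      · rw [e, inv_mul_cancel_left]; exact mX hp sp
    · intro x hx
      rw [fX x hx]; exact one_mem _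
    · intro x hx
      exact fX x (hYX hx)
  · interval_cases i
    · exact fun x hx => hYX (hj x hx)
    · exact fun x hx => hj x hx.1
    · rintro _ ⟨n, rfl⟩
      have e : totA (γ * cAut E s * γ⁻¹) (totA γ p) = totA γ p := by
        rw [totA_mul _ _ (totA_mem γ hp), totA_inv_totA _ hp, totA_mul _ _ hp, totA_cAut hn hp,
          ← sp, mul_inv_cancel_right]
      change _ ∈ (⊥ : Subgroup Ω)
      rw [(mulOn_totA _).map_zpow (totA_mem γ hp), e, inv_mul_cancel]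
      exact one_mem _

variable {k : ℕ}

theorem mm_mm : mm k + mm k = hf k := by linear_combination two_mm (k := k)

theorem hf_hf : hf k + hf k = 0 := by linear_combination two_hf (k := k)

theorem conj_y1 (x : GS k) : GS.y1 k * x * (GS.y1 k)⁻¹ = x ∨ GS.y1 k * x * (GS.y1 k)⁻¹ = x * GS.z k := by
  rcases x with ⟨x, y⟩ | ⟨x, y⟩ | ⟨x, y⟩ | ⟨x, y⟩
  · left; simp [GS.y1]
  · left; simp [GS.y1]
  · right; simp only [GS.y1, GS.z, GS.inv_o, GS.ou, GS.uo]
    congr 1 <;> linear_combination two_mm + two_hf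
  · right; simp only [GS.y1, GS.z, GS.inv_o, GS.ov, GS.vo]
    congr 1 <;> linear_combination two_mm + two_hf

theorem conj_y2 (x : GS k) : GS.y2 k * x * (GS.y2 k)⁻¹ = x ∨ GS.y2 k * x * (GS.y2 k)⁻¹ = x * GS.z k := by
  rcases x with ⟨x, y⟩ | ⟨x, y⟩ | ⟨x, y⟩ | ⟨x, y⟩
  · left; simp [GS.y2]
  · right; simp only [GS.y2, GS.z, GS.inv_o, GS.ot, GS.to']
    congr 1
    · linear_combination two_mm
    · linear_combination -two_mm - two_hf
  · right; simp only [GS.y2, GS.z, GS.inv_o, GS.ou, GS.uo]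
    congr 1
    · linear_combination two_mm + two_hf
    · linear_combination -two_mm
  · left; simp [GS.y2]

theorem conj_a0 (x : GS k) : GS.a0 k * x * (GS.a0 k)⁻¹ = x ∨ GS.a0 k * x * (GS.a0 k)⁻¹ = x * GS.z k := by
  rcases x with ⟨x, y⟩ | ⟨x, y⟩ | ⟨x, y⟩ | ⟨x, y⟩
  · left; simp [GS.a0]
  · right; simp only [GS.a0, GS.z, GS.inv_o, GS.ot, GS.to']
    congr 1
    · ring
    · linear_combination -two_hf
  · left; simp only [GS.a0, GS.inv_o, GS.ou, GS.uo]
    congr 1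
    · linear_combination two_hf
    · ring
  · right; simp only [GS.a0, GS.z, GS.inv_o, GS.ov, GS.vo]
    congr 1
    · linear_combination two_hf
    · linear_combination two_hf

theorem mem_CC_of_a0 {g : GS k} (h : g * GS.a0 k = GS.a0 k * g) : g ∈ CC k := by
  rcases g with ⟨x, y⟩ | ⟨x, y⟩ | ⟨x, y⟩ | ⟨x, y⟩ <;> simp [GS.a0] at h ⊢
  · exact hf_ne h
  · exact hf_ne h

theorem mem_CC_of_b0 {g : GS k} (h : g * GS.b0 k = GS.b0 k * g) : g ∈ CC k := by
  rcases g with ⟨x, y⟩ | ⟨x, y⟩ | ⟨x, y⟩ | ⟨x, y⟩ <;> simp [GS.b0] at h ⊢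
  · exact hf_ne h
  · exact hf_ne h

/-- An element of `T` whose square has order two acts on `CC` as a transvection. -/
theorem conj_o {a b : R k} (ha : 2 * (a + a) = 0) (hb : 2 * (b + b) = 0) {x : GS k} (hx : x ∈ CC k) :
    GS.o a b * x * (GS.o a b)⁻¹ = x ∨ GS.o a b * x * (GS.o a b)⁻¹ = x * GS.o (a + a) (b + b) := by
  obtain ⟨x, y, rfl | rfl⟩ := mem_CC.1 hx
  · left; simp
  · right; simp only [GS.inv_o, GS.ou, GS.uo]
    congr 1
    · linear_combination ha
    · linear_combination hb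

theorem T_comm {g h : GS k} (hg : g ∈ GS.T k) (hh : h ∈ GS.T k) : g * h = h * g := by
  obtain ⟨x, y, rfl⟩ := hg
  obtain ⟨a, b, rfl⟩ := hh
  simp [add_comm]

theorem mem_T_of_sq {g : GS k} (hg : g ∈ CC k) (h : g * g ≠ 1) : g ∈ GS.T k := by
  obtain ⟨x, y, rfl | rfl⟩ := mem_CC.1 hg
  · exact ⟨x, y, rfl⟩
  · simp at h

theorem mul_mem_T {g h : GS k} (hg : g ∈ CC k) (hh : h ∈ CC k) (n : g ∉ GS.T k) (n' : h ∉ GS.T k) :
    g * h ∈ GS.T k := by
  obtain ⟨x, y, rfl | rfl⟩ := mem_CC.1 hg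
  · exact absurd ⟨x, y, rfl⟩ n
  obtain ⟨a, b, rfl | rfl⟩ := mem_CC.1 hh
  · exact absurd ⟨a, b, rfl⟩ n'
  exact ⟨_, _, rfl⟩

theorem exists_mul_eq_hf {c : R k} (hc : c ≠ 0) : ∃ m, m * c = hf k := by
  obtain ⟨e, he, y, rfl⟩ := exists_two_pow_mul_unit c
  obtain ⟨u, hu⟩ := exists_mul_odd y
  obtain ⟨q, hq⟩ := exists_two_pow_mul_eq_hh (t := k + 1) (e := e) (by
    by_contra n
    exact hc (by rw [two_pow_eq_zero_iff.2 (by omega), zero_mul]))
  exact ⟨q * u, by linear_combination 2 ^ e * q * hu + hq⟩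

/-- `z` is a power of the square of an element commuting with an element outside `T`. -/
theorem z_mem {g w : GS k} (hw : w ∉ GS.T k) (c : g * w = w * g) (h : g * g ≠ 1) :
    GS.z k ∈ zpowers (g * g) := by
  have key : ∀ c : R k, g * g = GS.o c c ∨ g * g = GS.o c (-c) → GS.z k ∈ zpowers (g * g) := by
    intro c hc
    obtain ⟨m, hm⟩ := exists_mul_eq_hf (c := c) (by rintro rfl; simp at hc; exact h hc)
    rcases hc with e | e
    · have := GS.o_mul_mem (e ▸ mem_zpowers (g * g)) m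
      rwa [hm, ← e] at this
    · have := GS.o_mul_mem (e ▸ mem_zpowers (g * g)) m
      rwa [mul_neg, hm, neg_hf, ← e] at this
  rcases g with ⟨x, y⟩ | ⟨x, y⟩ | ⟨x, y⟩ | ⟨x, y⟩
  · rcases w with ⟨a, b⟩ | ⟨a, b⟩ | ⟨a, b⟩ | ⟨a, b⟩
    · exact absurd ⟨a, b, rfl⟩ hw
    · simp only [GS.ot, GS.to', GS.t.injEq] at c
      refine key (x + x) (Or.inl ?_)
      rw [GS.oo]; congr 1; linear_combination -2 * c.1
    · simp only [GS.ou, GS.uo, GS.u.injEq] at c
      refine absurd ?_ h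
      rw [GS.oo, GS.o_eq_one]
      exact ⟨by linear_combination c.1, by linear_combination c.2⟩
    · simp only [GS.ov, GS.vo, GS.v.injEq] at c
      refine key (x + x) (Or.inr ?_)
      rw [GS.oo]; congr 1; linear_combination 2 * c.1
  · exact key (x + y) (Or.inl (by rw [GS.tt, add_comm y]))
  · simp at h
  · exact key (x - y) (Or.inr (by rw [GS.vv, neg_sub]))

end G1a

open G1a

variable {k : ℕ} {F : FusionSystem (⊤ : Subgroup (GS k))} {E : Subgroup (GS k)}

/-- No essential subgroup is elementary abelian. -/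
theorem not_elem (hk : 1 ≤ k) (hF : F.IsSaturated 2) (hE : E = ⊤ ∨ F.IsEssential 2 E) :
    ∃ x ∈ E, x * x ≠ 1 := by
  have hS : IsPGroup 2 (⊤ : Subgroup (GS k)) := GS.isPGroup.to_subgroup ⊤
  rcases hE with rfl | hE
  · exact ⟨GS.y1 k, mem_top _, GS.y1_sq ▸ GS.z_ne_one⟩
  by_contra h
  push Not at h
  have hz : GS.z k ∈ E := hE.mem_of_comm (mem_top _) fun x _ => GS.z_comm x
  have D := hE.essData hF hS
  obtain ⟨γ, hγ, n⟩ := D.exists_not_mem
  refine n ?_
  have hy1 : GS.y1 k ∉ E := fun e => GS.z_ne_one (GS.y1_sq.symm.trans (h _ e))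
  have hy2 : GS.y2 k ∉ E := fun e => GS.z_ne_one (GS.y2_sq.symm.trans (h _ e))
  by_cases ha : GS.a0 k ∈ E
  · have hb : GS.b0 k ∈ E := by
      rw [← one_mul (GS.b0 k), ← GS.a0_sq, mul_assoc, GS.a0_mul_b0]; exact mul_mem ha hz
    have hC : E ≤ CC k := fun x hx => mem_CC_of_a0 (by
      have e1 := inv_eq_of_mul_eq_one_right (h _ (mul_mem hx ha))
      rw [mul_inv_rev, inv_eq_of_mul_eq_one_right (h _ hx),
        inv_eq_of_mul_eq_one_right (h _ ha)] at e1
      exact e1.symm)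
    have key : ∀ a b : R k, 2 * (a + a) = 0 → 2 * (b + b) = 0 → GS.o (a + a) (b + b) ≠ 1 →
        GS.o (a + a) (b + b) ∈ E → totA γ (GS.o (a + a) (b + b)) ∈ GS.T k → γ ∈ F.extAut E :=
      fun a b h1 h2 h3 h4 h5 => tr hS D (s := GS.o a b) (mem_top _) (fun e => h3 (h _ e)) h4
        (T_comm ⟨_, _, rfl⟩ ⟨_, _, rfl⟩) (fun x hx => conj_o h1 h2 (hC hx)) hγ
        (T_comm h5 ⟨_, _, rfl⟩)
    have h0 : 2 * ((0 : R k) + 0) = 0 := by simp
    have h1 : 2 * (mm k + mm k) = 0 := by rw [mm_mm, two_hf]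
    by_cases c1 : totA γ (GS.a0 k) ∈ GS.T k
    · refine key (mm k) 0 h1 h0 ?_ ?_ ?_ <;> rw [mm_mm, add_zero]
      exacts [GS.a0_ne_one, ha, c1]
    by_cases c2 : totA γ (GS.b0 k) ∈ GS.T k
    · refine key 0 (mm k) h0 h1 ?_ ?_ ?_ <;> rw [mm_mm, add_zero]
      exacts [GS.b0_ne_one, hb, c2]
    have c3 := mul_mem_T (hC (totA_mem γ ha)) (hC (totA_mem γ hb)) c1 c2
    rw [← (mulOn_totA γ).map_mul ha hb, GS.a0_mul_b0] at c3
    refine key (mm k) (mm k) h1 h1 ?_ ?_ ?_ <;> rw [mm_mm]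
    exacts [GS.z_ne_one, hz, c3]
  · have key : ∀ s ∉ E, (∀ x, s * x * s⁻¹ = x ∨ s * x * s⁻¹ = x * GS.z k) →
        totA γ (GS.z k) * s = s * totA γ (GS.z k) → γ ∈ F.extAut E := fun s h1 h2 h3 =>
      tr hS D (mem_top s) h1 hz (GS.z_comm s).symm (fun x _ => h2 x) hγ h3
    generalize totA γ (GS.z k) = w at key
    rcases w with ⟨x, y⟩ | ⟨x, y⟩ | ⟨x, y⟩ | ⟨x, y⟩
    · exact key _ hy1 conj_y1 (by simp [GS.y1, add_comm])
    · exact key _ hy1 conj_y1 (by simp [GS.y1, add_comm])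
    · refine key _ ha conj_a0 ?_
      simp only [GS.a0, GS.uo, GS.ou]
      congr 1
      · linear_combination -two_hf
      · ring
    · refine key _ hy2 conj_y2 ?_
      simp only [GS.y2, GS.vo, GS.ov]
      congr 1 <;> ring

/-- Only `CC k` has an automorphism moving `z`. -/
theorem eq_CC (hk : 1 ≤ k) (hF : F.IsSaturated 2) (hE : E = ⊤ ∨ F.IsEssential 2 E)
    {f : GS k → GS k} (hf : F.Iso E E f) (hz : f (GS.z k) ≠ GS.z k) : E = CC k := by
  have hS : IsPGroup 2 (⊤ : Subgroup (GS k)) := GS.isPGroup.to_subgroup ⊤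
  have hc := centric_of_top_or_essential hE
  have hr := hF.radical_of_top_or_essential hS hE
  have hzE : GS.z k ∈ E := hc.mem (mem_top _) fun x _ => GS.z_comm x
  obtain ⟨g, hg, gg⟩ := not_elem hk hF hE
  have cz : ∀ x ∈ E, x * f (GS.z k) = f (GS.z k) * x := fun x hx => by
    obtain ⟨y, hy, rfl⟩ := hf.surj x hx
    exact (hf.mor.commute_iff hy hzE).2 (GS.z_comm y)
  have zz : f (GS.z k) * f (GS.z k) = 1 := by rw [← hf.mor.map_mul hzE hzE, GS.z_sq, hf.mor.map_one]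
  have z1 : f (GS.z k) ≠ 1 := fun e => GS.z_ne_one ((hf.mor.eq_one_iff hzE).1 e)
  have h1 : f (GS.z k) = GS.a0 k ∨ f (GS.z k) = GS.b0 k := by
    by_cases hT : f (GS.z k) ∈ GS.T k
    · obtain ⟨x, y, e⟩ := hT
      rw [e] at zz z1 hz ⊢
      exact (GS.o_inv_cases zz z1).resolve_left hz
    · obtain ⟨n, e⟩ := z_mem hT (cz g hg) gg
      have hn := zpow_mem hg n
      refine (GS.sq_inv_cases (w := f (g ^ n)) ?_ zz z1).resolve_left hz
      rw [← hf.mor.map_mul hn hn, ← e, ← (Commute.refl g).mul_zpow]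
  have hC : E ≤ CC k := fun x hx => h1.elim (fun e => mem_CC_of_a0 (e ▸ cz x hx))
    fun e => mem_CC_of_b0 (e ▸ cz x hx)
  have gT := mem_T_of_sq (hC hg) gg
  obtain ⟨e, he, eT⟩ : ∃ e ∈ E, e ∉ GS.T k := by
    by_contra n
    push Not at n
    have hi : ∀ x ∈ E, GS.u 0 0 * x * (GS.u 0 0)⁻¹ = x⁻¹ := fun x hx => by
      obtain ⟨a, b, rfl⟩ := n x hx
      simp
    obtain ⟨a, b, e⟩ := n _ (hr.mem_of_frattini hS hc (s := GS.u 0 0) ⟨mem_top _,
      mem_normalizer_fintype fun x hx => (hi x hx).symm ▸ inv_mem hx⟩ fun x hx => by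
        rw [hi x hx, ← pow_two]
        exact mem_sup_right (GT.PG.pow_mem_powerClosure_one (inv_mem hx)))
    cases e
  have hI : InvA (F.autGroup E) (E ⊓ GS.T k) := invA_autGroup_of_iso le_top inf_le_left
    fun φ hφ x hx => ⟨hφ.maps x hx.1, by
      have key : ∀ y ∈ E, y * y ≠ 1 → φ y ∈ GS.T k := fun y hy yy =>
        mem_T_of_sq (hC (hφ.maps y hy)) fun e => yy ((hφ.mor.eq_one_iff (mul_mem hy hy)).1 (by
          rw [hφ.mor.map_mul hy hy, e]))
      by_cases xx : x * x = 1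
      · have := key (x * g) (mul_mem hx.1 hg) (by
          rwa [mul_assoc, ← mul_assoc g, T_comm gT hx.2, mul_assoc, ← mul_assoc, xx, one_mul])
        rw [hφ.mor.map_mul hx.1 hg] at this
        exact (mul_mem_cancel_right (key g hg gg)).1 this
      · exact key x hx.1 xx⟩
  by_contra ne
  obtain ⟨n, hn, nE⟩ := SetLike.exists_of_lt
    (lt_normalizerIn (GS.isPGroup.to_subgroup (CC k)) (lt_of_le_of_ne hC ne))
  have key : ∀ s ∈ normalizer (E : Set (GS k)), s ∈ GS.T k → s ∈ E := fun s hs hT =>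
    hr.mem_of_chain2 hS hc hI (invA_bot _) bot_le bot_le ⟨mem_top s, hs⟩
      (fun x hx => ⟨E.mul_mem (E.inv_mem hx) ((mem_normalizer_iff.1 hs x).1 hx), by
        have := mul_mem ((inferInstance : (GS.T k).Normal).conj_mem s hT x⁻¹) (inv_mem hT)
        simpa [mul_assoc] using this⟩)
      fun x hx => by rw [T_comm hT hx.2]; simp
  by_cases nT : n ∈ GS.T k
  · exact nE (key n hn.2 nT)
  · exact nE ((mul_mem_cancel_right he).1
      (key _ (mul_mem hn.2 (le_normalizer he)) (mul_mem_T hn.1 (hC he) nT eT)))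

end Cfsg.Agent.WQ
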