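import Mathlib
import Cfsg.Agent.WQ.Defs

/-! Automorphisms of odd order of centric subgroups of `GS k` that fix `z` and preserve `Q2`. -/

set_option autoImplicit false
set_option linter.unusedVariables false

namespace Cfsg.Agent.WQ

open Subgroup Cfsg.FusionSystem Cfsg.Agent.Fus Cfsg.Agent.Inv.Fz Cfsg.Agent.G2T

variable {k : ℕ}

namespace G1b

open GS

/-- Membership in `M`. -/
def InM : GS k → Prop
  | .o _ _ => True
  | .t _ _ => True
  | _ => False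

/-- The subgroup of index two that maps onto the rotations of the dihedral group `GS k / Q2`. -/
def M (k : ℕ) : Subgroup (GS k) where
  carrier := {g | InM g}
  one_mem' := trivial
  mul_mem' := by rintro (_ | _ | _ | _) (_ | _ | _ | _) h h' <;> trivial
  inv_mem' := by rintro (_ | _ | _ | _) h <;> trivial

@[simp] theorem o_mem_M {x y : R k} : o x y ∈ M k := trivial
@[simp] theorem t_mem_M {x y : R k} : t x y ∈ M k := trivial
@[simp] theorem u_mem_M {x y : R k} : u x y ∉ M k := id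
@[simp] theorem v_mem_M {x y : R k} : v x y ∉ M k := id

/-- The angle of a rotation. -/
def pi : GS k → R k
  | .o x y => x + y
  | .t x y => x + y + hf k
  | _ => 0

variable {g h p : GS k}

theorem pi_mul (hg : g ∈ M k) (hh : h ∈ M k) : pi (g * h) = pi g + pi h := by
  rcases g with _ | _ | _ | _ <;> rcases h with _ | _ | _ | _ <;> simp [pi] at hg hh ⊢ <;>
    first | ring1 | linear_combination -two_hf

theorem pi_inv (hg : g ∈ M k) : pi g⁻¹ = -pi g := by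
  rcases g with _ | _ | _ | _ <;> simp [pi] at hg ⊢ <;> first | ring1 | linear_combination two_hf

theorem mem_Q2_iff : g ∈ Q2 k ↔ g ∈ M k ∧ pi g = 0 := by
  rcases g with _ | _ | _ | _ <;> simp [pi]
  exact ⟨fun e => by linear_combination e + two_hf, fun e => by linear_combination e - two_hf⟩

theorem inv_mul_mem_M (hg : g ∉ M k) (hh : h ∉ M k) : g⁻¹ * h ∈ M k := by
  rcases g with _ | _ | _ | _ <;> rcases h with _ | _ | _ | _ <;> simp at hg hh ⊢

theorem sq_mem_Q2 (hg : g ∉ M k) : g * g ∈ Q2 k := by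
  rcases g with _ | _ | _ | _ <;> simp at hg ⊢

theorem comm_mem_Q2 (hg : g ∈ M k) (e : pi g = hf k) (h : GS k) : h * g * h⁻¹ * g⁻¹ ∈ Q2 k := by
  rcases g with _ | _ | _ | _ <;> rcases h with _ | _ | _ | _ <;> simp [pi] at hg e ⊢ <;>
    first | ring1 | linear_combination -2 * e - two_hf | linear_combination -2 * e

theorem two_pi (hg : g ∉ M k) (hh : h ∈ M k) (e : h * g * h⁻¹ * g⁻¹ ∈ Q2 k) : pi h = 0 ∨ pi h = hf k := by
  rw [← two_eq_zero]
  rcases g with _ | _ | _ | _ <;> rcases h with _ | _ | _ | _ <;> simp [pi] at hg hh e ⊢ <;>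
    first | linear_combination e | linear_combination e + two_hf

theorem y2_inv : (y2 k)⁻¹ = y2 k * z k := by
  rw [← y2_sq, inv_eq_iff_mul_eq_one, ← mul_assoc, y2_sq, z_sq]
theorem y1_inv : (y1 k)⁻¹ = y1 k * z k := by
  rw [← y1_sq, inv_eq_iff_mul_eq_one, ← mul_assoc, y1_sq, z_sq]

theorem conj_y2 (g : GS k) : g * y2 k * g⁻¹ = y2 k ∨ g * y2 k * g⁻¹ = (y2 k)⁻¹ := by
  rcases g with _ | _ | _ | _ <;> simp [y2]
theorem conj_y1 (g : GS k) : g * y1 k * g⁻¹ = y1 k ∨ g * y1 k * g⁻¹ = (y1 k)⁻¹ := by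
  rcases g with _ | _ | _ | _ <;> simp [y1]

theorem y1_notMem : y1 k ∉ Q2 k := by simp [y1, ← two_mul, two_mm, hf_ne]

theorem mem_Q1_of {c : R k} (h1 : g * y2 k = y2 k * g) (h2 : g * t (c + hf k) (-c) = t (c + hf k) (-c) * g) :
    g ∈ Q1 k := by
  rcases g with ⟨x, y⟩ | ⟨x, y⟩ | ⟨x, y⟩ | ⟨x, y⟩ <;> simp only [y2, oo, ot, to', tt, uo, ou, ut, tu, vo, ov, vt, tv,
    o.injEq, t.injEq, u.injEq, v.injEq, o_mem_Q1, v_mem_Q1] at h1 h2 ⊢
  · linear_combination h2.1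
  · exact absurd (by linear_combination -h1.1) (mm_ne_neg (k := k))
  · exact absurd (by linear_combination -h1.1) (mm_ne_neg (k := k))
  · linear_combination h2.1

theorem mem_Q2_of {c : R k} (h1 : g * y1 k = y1 k * g) (h2 : g * v (c + hf k) c = v (c + hf k) c * g) :
    g ∈ Q2 k := by
  rcases g with ⟨x, y⟩ | ⟨x, y⟩ | ⟨x, y⟩ | ⟨x, y⟩ <;> simp only [y1, oo, ov, to', ot, tv, vt, uo, ou, uv, vu, vo, vv,
    o.injEq, t.injEq, u.injEq, v.injEq, o_mem_Q2, t_mem_Q2] at h1 h2 ⊢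
  · linear_combination h2.1
  · linear_combination h2.1
  · exact absurd (by linear_combination -h1.1) (mm_ne_neg (k := k))
  · exact absurd (by linear_combination -h1.1) (mm_ne_neg (k := k))

theorem exists_mm {c : R k} (h : 2 * c ≠ 0) : ∃ d, d * c = mm k := by
  obtain ⟨e, -, y, rfl⟩ := exists_two_pow_mul_unit c
  obtain ⟨w, hw⟩ := exists_mul_odd y
  have he : e ≤ k := by
    by_contra n
    exact h (by rw [← mul_assoc, ← pow_succ', two_pow_eq_zero_iff.2 (by omega), zero_mul])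
  have h1 : mm k = 2 ^ (k - e) * 2 ^ e := by rw [mm, ← pow_add, Nat.sub_add_cancel he]
  exact ⟨2 ^ (k - e) * w, by linear_combination 2 ^ (k - e) * 2 ^ e * hw - h1⟩

theorem o_anti {c : R k} (h : 2 * c = 0) : o c (-c) = 1 ∨ o c (-c) = z k := by
  rcases two_eq_zero.1 h with rfl | rfl
  exacts [.inl (by simp), .inr (by rw [neg_hf]; rfl)]

/-- An element that normalises two generators of a quaternion group acts as an element of that group. -/
theorem exists_inner {G : Type*} [Group G] {y p e : G} {A : Subgroup G} (hy : y ∈ A) (hp : p ∈ A)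
    (h1 : p * y * p⁻¹ = y⁻¹) (h2 : y * p * y⁻¹ = p⁻¹) (h3 : e * y * e⁻¹ = y ∨ e * y * e⁻¹ = y⁻¹)
    (h4 : e * p * e⁻¹ = p ∨ e * p * e⁻¹ = p⁻¹) :
    ∃ d ∈ A, e * d * y = y * (e * d) ∧ e * d * p = p * (e * d) := by
  have k : ∀ {x d : G}, e * (d * x * d⁻¹) * e⁻¹ = x → e * d * x = x * (e * d) := fun {x d} h => by
    rw [← mul_inv_eq_iff_eq_mul]; convert h using 1; group
  have i : ∀ {x : G}, e * x * e⁻¹ = x⁻¹ → e * x⁻¹ * e⁻¹ = x := fun {x} h => by rw [← conj_inv, h, inv_inv]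
  rcases h3 with h3 | h3 <;> rcases h4 with h4 | h4
  · exact ⟨1, one_mem _, k (by simpa using h3), k (by simpa using h4)⟩
  · exact ⟨y, hy, k (by rwa [mul_inv_cancel_right]), k (h2 ▸ i h4)⟩
  · exact ⟨p, hp, k (h1 ▸ i h3), k (by rwa [mul_inv_cancel_right])⟩
  · refine ⟨y * p, mul_mem hy hp, k ?_, k ?_⟩
    · rw [show y * p * y * (y * p)⁻¹ = y * (p * y * p⁻¹) * y⁻¹ by group, h1, mul_inv_cancel, one_mul, i h3]
    · rw [show y * p * p * (y * p)⁻¹ = y * p * y⁻¹ by group, h2, i h4]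

/-- The properties of the automorphism. -/
structure H (E : Subgroup (GS k)) (φ : GS k → GS k) : Prop where
  mem : ∀ x ∈ E, φ x ∈ E
  mul : MulOn E φ
  inj : ∀ x ∈ E, ∀ y ∈ E, φ x = φ y → x = y
  surj : ∀ y ∈ E, ∃ x ∈ E, φ x = y
  l1 : ∀ x ∈ E, ∀ c ∈ E, φ x = x * c → φ c = c → φ x = x
  l2 : ∀ x ∈ E, ∀ c ∈ E, φ (φ x) = x * c → φ c = c → φ x = x
  zm : z k ∈ E
  hz : φ (z k) = z k
  hB : ∀ x ∈ E, φ x ∈ Q2 k ↔ x ∈ Q2 k

namespace H

variable {E : Subgroup (GS k)} {φ : GS k → GS k} (a : H E φ)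
include a

theorem fix_of (hg : g ∈ E) (e : φ (g⁻¹ * φ g) = g⁻¹ * φ g) : φ g = g :=
  a.l1 g hg _ (mul_mem (inv_mem hg) (a.mem g hg)) (mul_inv_cancel_left _ _).symm e

theorem sq_z (hg : g ∈ E) (e : g * g = z k) : φ g * φ g = z k := by rw [← a.mul g hg g hg, e, a.hz]

theorem mem_Q1 (hg : g ∈ E) (e : g * g = z k) (h2 : g ∉ Q2 k) : φ g ∈ Q1 k :=
  (mem_of_sq_eq_z (a.sq_z hg e)).resolve_right fun h => h2 ((a.hB g hg).1 h)

theorem comm (hg : g ∈ E) (hh : h ∈ E) (e : g * h = h * g) : φ g * φ h = φ h * φ g := by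
  rw [← a.mul g hg h hh, e, a.mul h hh g hg]

theorem conj {y : GS k} (hy : y ∈ E) (c : ∀ g, g * y * g⁻¹ = y ∨ g * y * g⁻¹ = y⁻¹) (hg : g ∈ E) :
    g * φ y * g⁻¹ = φ y ∨ g * φ y * g⁻¹ = (φ y)⁻¹ := by
  obtain ⟨x, hx, rfl⟩ := a.surj g hg
  rw [← a.mul.map_conj hx hy, ← a.mul.map_inv hy]
  exact (c x).imp (congrArg φ) (congrArg φ)

/-- The case that `y2` is moved. -/
theorem case1 (hy : y2 k ∈ E) (h1 : φ (y2 k) ≠ y2 k) : (∀ x ∈ E, ∃ c ∈ E ⊓ Q1 k, ∃ d ∈ E ⊓ Q2 k, x = c * d) ∧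
    ∀ x ∈ E, x ∈ Q1 k → φ x ∈ Q1 k := by
  have hp := (a.hB _ hy).2 y2_mem
  obtain ⟨c, e⟩ : ∃ c, φ (y2 k) = t (c + hf k) (-c) := (Q2_cases hp).resolve_left fun ⟨c, e⟩ => by
    rcases o_anti_sq_eq_z (e ▸ a.sq_z hy y2_sq) with e' | e'
    exacts [h1 (e.trans e'), h1 (a.l1 _ hy _ a.zm (e.trans (e'.trans y2_inv)) a.hz)]
  refine ⟨fun x hx => ?_, fun x hx h => ?_⟩
  · obtain ⟨d, hd, h2, h3⟩ := exists_inner (A := E ⊓ Q2 k) ⟨hy, y2_mem⟩ ⟨a.mem _ hy, hp⟩ (by rw [e]; simp [y2]; ring)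
      (by rw [e]; simp only [y2, ot, inv_o, to', inv_t, t.injEq]
          exact ⟨by linear_combination two_mm + two_hf, by linear_combination -two_mm⟩)
      (conj_y2 x) (a.conj hy conj_y2 hx)
    exact ⟨x * d, ⟨mul_mem hx hd.1, mem_Q1_of h2 (e ▸ h3)⟩, d⁻¹, inv_mem hd, (mul_inv_cancel_right _ _).symm⟩
  · obtain ⟨y, hy', e'⟩ := a.surj _ hy
    exact mem_Q1_of (e' ▸ a.comm hx hy' (Q1_comm_Q2 h ((a.hB y hy').1 (e' ▸ y2_mem))))
      (e ▸ a.comm hx hy (Q1_comm_Q2 h y2_mem))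

/-- The case that `y1` is moved. -/
theorem case2 (hy : y1 k ∈ E) (h1 : φ (y1 k) ≠ y1 k) : (∀ x ∈ E, ∃ c ∈ E ⊓ Q1 k, ∃ d ∈ E ⊓ Q2 k, x = c * d) ∧
    ∀ x ∈ E, x ∈ Q1 k → φ x ∈ Q1 k := by
  have hp := a.mem_Q1 hy y1_sq y1_notMem
  obtain ⟨c, e⟩ : ∃ c, φ (y1 k) = v (c + hf k) c := (Q1_cases hp).resolve_left fun ⟨c, e⟩ => by
    rcases o_diag_sq_eq_z (e ▸ a.sq_z hy y1_sq) with e' | e'
    exacts [h1 (e.trans e'), h1 (a.l1 _ hy _ a.zm (e.trans (e'.trans y1_inv)) a.hz)]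
  refine ⟨fun x hx => ?_, fun x hx h => ?_⟩
  · obtain ⟨d, hd, h2, h3⟩ := exists_inner (A := E ⊓ Q1 k) ⟨hy, y1_mem⟩ ⟨a.mem _ hy, hp⟩ (by rw [e]; simp [y1])
      (by rw [e]; simp only [y1, ov, inv_o, vo, inv_v, v.injEq]
          exact ⟨by linear_combination two_mm + two_hf, by linear_combination two_mm⟩)
      (conj_y1 x) (a.conj hy conj_y1 hx)
    have h4 := mem_Q2_of h2 (e ▸ h3)
    exact ⟨d⁻¹, inv_mem hd, x * d, ⟨mul_mem hx hd.1, h4⟩, by
      rw [Q1_comm_Q2 (inv_mem hd.2) h4, mul_inv_cancel_right]⟩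
  · have kk : ∀ b, v (b + hf k) b ∈ E → φ (v (b + hf k) b) ∈ Q1 k := fun b hb =>
      a.mem_Q1 hb (by simp [z, neg_hf]) v_mem_Q2
    have hq := e ▸ a.mem _ hy
    rcases Q1_cases h with ⟨b, rfl⟩ | ⟨b, rfl⟩
    · have h2 : o b b * v (c + hf k) c = v (b + c + hf k) (b + c) := by rw [ov, add_assoc b]
      rw [← mul_inv_cancel_right (o b b) (v (c + hf k) c), a.mul _ (mul_mem hx hq) _ (inv_mem hq), a.mul.map_inv hq]
      exact mul_mem (h2 ▸ kk _ (h2 ▸ mul_mem hx hq)) (inv_mem (kk _ hq))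
    · exact kk b hx

/-- An invariant subgroup that is cyclic modulo a group of fixed points is fixed. -/
theorem chain {P : Subgroup (GS k)} (hP : ∀ x ∈ E, x ∈ P → φ x ∈ P) (f : GS k → R k)
    (hf' : ∀ x ∈ P, ∀ y ∈ P, f (x * y) = f x + f y) (h0 : ∀ x ∈ E, x ∈ P → f x = 0 → φ x = x) :
    ∀ x ∈ E, x ∈ P → φ x = x := by
  have f1 : f 1 = 0 := by simpa using hf' 1 (one_mem _) 1 (one_mem _)
  have fp : ∀ x ∈ P, ∀ n : ℕ, f (x ^ n) = n * f x := fun x hx n => by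
    induction n with
    | zero => simpa using f1
    | succ n ih => rw [pow_succ, hf' _ (pow_mem hx n) x hx, ih]; push_cast; ring
  have k : ∀ i : ℕ, ∀ x ∈ E, x ∈ P → 2 ^ i * f x = 0 → φ x = x := fun i => by
    induction i with
    | zero => exact fun x hx h e => h0 x hx h (by simpa using e)
    | succ i ih =>
      intro x hx h e
      have hx' := a.mem x hx
      have h' := hP x hx h
      rcases (two_eq_zero (x := 2 ^ i * f x)).1 (by linear_combination e) with e1 | e1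
      · exact ih x hx h e1
      have e2 : 2 ^ (i + 1) * f (φ x) = 0 := by
        have h1 := fp x h (2 ^ (i + 1))
        have h2 := fp _ h' (2 ^ (i + 1))
        push_cast at h1 h2
        rw [← h2, ← a.mul.map_pow hx, h0 _ (pow_mem hx _) (pow_mem h _) (h1.trans e), h1, e]
      rcases (two_eq_zero (x := 2 ^ i * f (φ x))).1 (by linear_combination e2) with e3 | e3
      · exact a.inj _ hx' _ hx (ih _ hx' h' e3)
      refine a.fix_of hx (ih _ (mul_mem (inv_mem hx) hx') (mul_mem (inv_mem h) h') ?_)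
      have h1 := hf' _ h _ (mul_mem (inv_mem h) h')
      rw [mul_inv_cancel_left] at h1
      linear_combination e3 - e1 - 2 ^ i * h1
  exact fun x hx h => k _ x hx h (by rw [two_pow_eq_zero_iff.2 le_rfl, zero_mul])

theorem fix_B (hy : y2 k ∈ E → φ (y2 k) = y2 k) : ∀ x ∈ E, x ∈ Q2 k → φ x = x := by
  have h1 : ∀ x ∈ E, x ∈ Q2 k ⊓ T k → φ x = x := by
    by_cases h : y2 k ∈ E
    · refine a.chain (fun x hx h' => ⟨(a.hB x hx).2 h'.1, ?_⟩) (fun g => match g with | .o x _ => x | _ => 0) ?_ ?_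
      · obtain ⟨b, c, rfl⟩ := h'.2
        have h2 := a.comm hx h (by simp [y2, add_comm])
        rw [hy h] at h2
        rcases Q2_cases ((a.hB _ hx).2 h'.1) with ⟨d, e⟩ | ⟨d, e⟩ <;> rw [e] at h2 ⊢
        · exact o_mem_T
        · simp only [y2, to', ot, t.injEq] at h2
          exact absurd (by linear_combination -h2.1) (mm_ne_neg (k := k))
      · rintro _ ⟨-, b, c, rfl⟩ _ ⟨-, b', c', rfl⟩
        rfl
      · rintro _ - ⟨h1, b, c, rfl⟩ (rfl : b = 0)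
        obtain rfl : c = 0 := (zero_add c).symm.trans h1
        exact a.mul.map_one
    · rintro _ hx ⟨h1, b, c, rfl⟩
      obtain rfl : c = -b := by linear_combination o_mem_Q2.1 h1
      by_cases h2 : 2 * b = 0
      · rcases o_anti h2 with e | e <;> rw [e]
        exacts [a.mul.map_one, a.hz]
      · obtain ⟨d, e⟩ := exists_mm h2
        exact absurd (by simpa only [mul_neg, e, y2] using o_mul_mem hx d) h
  intro x hx h
  have h' := (a.hB x hx).2 h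
  by_cases h2 : x ∈ T k
  · exact h1 x hx ⟨h, h2⟩
  by_cases h3 : φ x ∈ T k
  · exact a.inj _ (a.mem x hx) _ hx (h1 _ (a.mem x hx) ⟨h', h3⟩)
  refine a.fix_of hx (h1 _ (mul_mem (inv_mem hx) (a.mem x hx)) ⟨(Q2 k).mul_mem ((Q2 k).inv_mem h) h', ?_⟩)
  rcases Q2_cases h with ⟨c, e⟩ | ⟨c, e⟩
  · exact absurd (e ▸ o_mem_T) h2
  rcases Q2_cases h' with ⟨d, e'⟩ | ⟨d, e'⟩
  · exact absurd (e' ▸ o_mem_T) h3
  · rw [e', e]; exact o_mem_T

section C

variable (hB' : ∀ x ∈ E, x ∈ Q2 k → φ x = x) {e : GS k} (he : e ∈ E) (hM : e ∈ M k) (hM' : φ e ∉ M k)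
include hB' he hM hM'

omit hB' in
theorem pi_eq : pi e = hf k := by
  have h1 := (mem_Q2_iff.1 ((a.hB _ (mul_mem he he)).1 (a.mul e he e he ▸ sq_mem_Q2 hM'))).2
  rw [pi_mul hM hM, ← two_mul, two_eq_zero] at h1
  exact h1.resolve_left fun h => hM' (mem_Q2_iff.1 ((a.hB e he).2 (mem_Q2_iff.2 ⟨hM, h⟩))).1

omit hB' in
/-- The rotations in `E` form two cosets of `E ⊓ Q2`. -/
theorem cosets (hg : g ∈ E) (h : g ∈ M k) : g ∈ Q2 k ∨ e⁻¹ * g ∈ Q2 k := by
  obtain ⟨x, hx, rfl⟩ := a.surj g hg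
  have h1 := (a.hB _ (mul_mem (mul_mem (mul_mem hx he) (inv_mem hx)) (inv_mem he))).2
    (comm_mem_Q2 hM (a.pi_eq he hM hM') x)
  rw [a.mul _ (mul_mem (mul_mem hx he) (inv_mem hx)) _ (inv_mem he), a.mul.map_conj hx he, a.mul.map_inv he] at h1
  refine (two_pi hM' h h1).imp (fun e' => mem_Q2_iff.2 ⟨h, e'⟩) fun e' =>
    mem_Q2_iff.2 ⟨mul_mem (inv_mem hM) h, ?_⟩
  rw [pi_mul (inv_mem hM) h, pi_inv hM, a.pi_eq he hM hM', e', neg_add_cancel]

theorem notMem_M (hg : g ∈ E) (h : g ∈ M k) (h2 : g ∉ Q2 k) : φ g ∉ M k := fun h3 => by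
  have h4 := (a.cosets he hM hM' hg h).resolve_left h2
  have h5 := hB' _ (mul_mem (inv_mem he) hg) h4
  rw [a.mul _ (inv_mem he) _ hg, a.mul.map_inv he] at h5
  exact hM' (inv_mem_iff.1 ((mul_mem_cancel_right h3).1 (h5 ▸ (mem_Q2_iff.1 h4).1)))

theorem exists_cent : ∃ g ∈ E, g ∈ M k ∧ φ g ∉ M k ∧ ∀ b ∈ E, b ∈ Q2 k → g * b = b * g := by
  have c : ∀ g ∈ E, ∀ b ∈ E, b ∈ Q2 k → g⁻¹ * φ g * b = b * (g⁻¹ * φ g) := fun g hg b hb h => by
    have h1 := hB' _ (mul_mem (mul_mem hg hb) (inv_mem hg)) (Normal.conj_mem inferInstance b h g)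
    rw [a.mul.map_conj hg hb, hB' b hb h] at h1
    rw [mul_assoc, ← mul_inv_cancel_right (φ g * b) (φ g)⁻¹, h1]; group
  have m : ∀ g ∈ E, g⁻¹ * φ g ∈ E := fun g hg => mul_mem (inv_mem hg) (a.mem g hg)
  have h1 : e⁻¹ * φ e ∉ M k := fun h => hM' ((mul_mem_cancel_left (inv_mem hM)).1 h)
  by_cases h2 : φ (e⁻¹ * φ e) ∈ M k
  · refine ⟨_, a.mem _ (m e he), h2, a.notMem_M hB' he hM hM' (a.mem _ (m e he)) h2 fun h =>
      h1 (mem_Q2_iff.1 ((a.hB _ (m e he)).1 h)).1, fun b hb h => ?_⟩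
    rw [← hB' b hb h]
    exact a.comm (m e he) hb (c e he b hb h)
  · exact ⟨_, m _ (m e he), inv_mul_mem_M h1 h2, a.notMem_M hB' he hM hM' (m _ (m e he)) (inv_mul_mem_M h1 h2)
      fun h => hM' ((a.fix_of he (a.fix_of (m e he) (hB' _ (m _ (m e he)) h))).symm ▸ hM), c _ (m e he)⟩

theorem sq_eq_one (hb : ∀ b ∈ E, b ∈ Q2 k → b = 1 ∨ b = z k) (h0 : e * e = 1) : ∀ x ∈ E, x * x = 1 := by
  have he1 := a.mem e he
  have he2 := a.mem _ he1
  have s : ∀ {g x}, g ∈ E → x ∈ E → g * g = 1 → g⁻¹ * x ∈ Q2 k → x * x = 1 := fun {g x} hg hx h1 h2 => by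
    rcases hb _ (mul_mem (inv_mem hg) hx) h2 with h | h <;> rw [inv_mul_eq_iff_eq_mul] at h <;> rw [h]
    · rwa [mul_one]
    · rw [mul_assoc, ← mul_assoc (z k), ← z_comm, mul_assoc, z_sq, mul_one, h1]
  have p : ∀ g ∈ E, g * g = 1 → φ g * φ g = 1 := fun g hg h => by rw [← a.mul g hg g hg, h, a.mul.map_one]
  have n : φ e ≠ e := fun h => hM' (h.symm ▸ hM)
  have h1 : φ (φ e) ∉ M k := fun h => by
    rcases a.cosets he hM hM' he2 h with h2 | h2
    · exact hM' (mem_Q2_iff.1 ((a.hB _ he1).1 h2)).1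
    · have h3 := mul_mem (inv_mem he) he2
      exact n (a.l2 e he _ h3 (mul_inv_cancel_left _ _).symm (hB' _ h3 h2))
  have h2 := (a.cosets he hM hM' (mul_mem (inv_mem he1) he2) (inv_mul_mem_M hM' h1)).resolve_left fun h =>
    n (a.inj _ he1 _ he (a.fix_of he1 (hB' _ (mul_mem (inv_mem he1) he2) h)))
  intro x hx
  by_cases h : x ∈ M k
  · rcases a.cosets he hM hM' hx h with h3 | h3
    exacts [s (one_mem E) hx (mul_one 1) (by simpa using h3), s he hx h0 h3]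
  · rcases a.cosets he hM hM' (mul_mem (inv_mem he1) hx) (inv_mul_mem_M hM' h) with h3 | h3
    · exact s he1 hx (p e he h0) h3
    · refine s he2 hx (p _ he1 (p e he h0)) ?_
      convert mul_mem (inv_mem h2) h3 using 1
      group

theorem caseC (hc : ∀ g, (∀ x ∈ E, x * g = g * x) → g ∈ E) (hne : ∃ x ∈ E, x * x ≠ 1)
    (hy : y1 k ∈ E → φ (y1 k) = y1 k) (c : ∀ b ∈ E, b ∈ Q2 k → e * b = b * e) : False := by
  have hy' : y1 k ∉ E := fun h => a.notMem_M hB' he hM hM' h o_mem_M y1_notMem ((hy h).symm ▸ o_mem_M)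
  have hd : ∀ b, o b b ∈ E → 2 * b ≠ hf k := fun b h h' => by
    rcases two_eq_hf.1 h' with rfl | rfl
    exacts [hy' h, hy' (inv_mem_iff.1 h)]
  have hs := fun h1 h2 => let ⟨x, hx, n⟩ := hne; n (a.sq_eq_one hB' he hM hM' h1 h2 x hx)
  have hp := a.pi_eq he hM hM'
  have c' : ∀ b ∈ E, b ∈ Q2 k → φ e * b = b * φ e := fun b hb h => hB' b hb h ▸ a.comm he hb (c b hb h)
  rcases e with ⟨x, y⟩ | ⟨x, y⟩ | _ | _
  · change x + y = hf k at hp
    have h1 : ∀ b ∈ E, b ∈ Q2 k → ∃ d, b = o d (-d) := fun b hb h => (Q2_cases h).resolve_right fun ⟨d, e'⟩ => by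
      have h2 := c b hb h
      simp only [e', ot, to', t.injEq] at h2
      obtain rfl : x = y := by linear_combination h2.1
      exact hd x he (by linear_combination hp)
    have h2 := a.mul _ he _ he
    rcases e1 : φ (o x y) with _ | _ | ⟨m, n⟩ | ⟨m, n⟩ <;> rw [e1] at hM' c' h2
    · exact hM' o_mem_M
    · exact hM' t_mem_M
    · refine hs (fun b hb h => ?_) (a.inj _ (mul_mem he he) _ (one_mem E) (by rw [h2, a.mul.map_one]; simp))
      obtain ⟨d, rfl⟩ := h1 b hb h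
      have h3 := c' _ hb h
      simp only [uo, ou, u.injEq] at h3
      exact o_anti (by linear_combination -h3.1)
    · have h3 : ∀ g ∈ E, g ∈ M k → g * o 1 (-1) = o 1 (-1) * g := fun g hg h => by
        rcases a.cosets he hM (e1 ▸ hM') hg h with h4 | h4
        · obtain ⟨d, rfl⟩ := h1 g hg h4
          simp [add_comm]
        · obtain ⟨d, e'⟩ := h1 _ (mul_mem (inv_mem he) hg) h4
          rw [inv_mul_eq_iff_eq_mul.1 e']
          simp [add_comm]
      have h4 : o 1 (-1) ∈ E := hc _ fun g hg => by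
        by_cases h : g ∈ M k
        · exact h3 g hg h
        · have h5 := h3 _ (mul_mem (inv_mem (e1 ▸ a.mem _ he)) hg) (inv_mul_mem_M hM' h)
          have h6 : v m n * o 1 (-1) = o 1 (-1) * v m n := by
            simp only [vo, ov, v.injEq]
            constructor <;> ring
          rw [← mul_inv_cancel_left (v m n) g, mul_assoc, h5, ← mul_assoc, h6, mul_assoc]
      refine hy' ?_
      convert mul_mem he (o_mul_mem h4 (mm k - x)) using 1
      simp only [y1, oo, o.injEq]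
      exact ⟨by ring, by linear_combination two_mm - hp⟩
  · change x + y + hf k = hf k at hp
    obtain rfl : y = -x := by linear_combination hp
    refine hs (fun b hb h => ?_) (by simp)
    have h2 := c b hb h
    rcases Q2_cases h with ⟨d, rfl⟩ | ⟨d, rfl⟩
    · simp only [ot, to', t.injEq] at h2
      exact o_anti (by linear_combination -h2.1)
    · simp only [tt, o.injEq] at h2
      have h3 := mul_mem he hb
      rw [tt, show -x + (d + hf k) = x + -d by linear_combination -h2.1] at h3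
      exact absurd (by linear_combination h2.1) (hd _ h3)
  · exact hM
  · exact hM

end C

theorem case3 (hc : ∀ g, (∀ x ∈ E, x * g = g * x) → g ∈ E) (hne : ∃ x ∈ E, x * x ≠ 1)
    (h2 : y2 k ∈ E → φ (y2 k) = y2 k) (h1 : y1 k ∈ E → φ (y1 k) = y1 k) : ∀ x ∈ E, φ x = x := by
  have hB' := a.fix_B h2
  have h3 : ∀ x ∈ E, x ∈ M k → φ x = x := a.chain (fun e he hM => by
    by_contra hM'
    obtain ⟨g, hg, h4, h5, h6⟩ := a.exists_cent hB' he hM hM'
    exact a.caseC hB' hg h4 h5 hc hne h1 h6) pi (fun _ hx _ hy => pi_mul hx hy)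
    fun x hx h e => hB' x hx (mem_Q2_iff.2 ⟨h, e⟩)
  intro x hx
  by_cases h4 : x ∈ M k
  · exact h3 x hx h4
  by_cases h5 : φ x ∈ M k
  · exact a.inj _ (a.mem x hx) _ hx (h3 _ (a.mem x hx) h5)
  · exact a.fix_of hx (h3 _ (mul_mem (inv_mem hx) (a.mem x hx)) (inv_mul_mem_M h4 h5))

end H

end G1b

/-- Automorphisms of odd order fixing `z` and preserving `Q2` (no fusion system involved). -/
theorem fix_case (hk : 1 ≤ k) {E : Subgroup (GS k)}
    (hc : ∀ g, (∀ x ∈ E, x * g = g * x) → g ∈ E) (hne : ∃ x ∈ E, x * x ≠ 1)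
    {β : MulAut E} (ho : Odd (orderOf β)) (hz : totA β (GS.z k) = GS.z k)
    (hB : ∀ x ∈ E, totA β x ∈ GS.Q2 k ↔ x ∈ GS.Q2 k) :
    β = 1 ∨ ((∀ x ∈ E, ∃ c ∈ E ⊓ GS.Q1 k, ∃ d ∈ E ⊓ GS.Q2 k, x = c * d) ∧
      ∀ x ∈ E, x ∈ GS.Q1 k → totA β x ∈ GS.Q1 k) := by
  have l : ∀ γ : MulAut E, Odd (orderOf γ) → ∀ x (hx : x ∈ E), ∀ c ∈ E, totA γ x = x * c → totA γ c = c →
      γ ⟨x, hx⟩ = ⟨x, hx⟩ := fun γ hγ x hx c hc h1 h2 => by
    obtain ⟨n, hn⟩ := GS.isPGroup c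
    rw [totA_apply _ hx] at h1
    rw [totA_apply _ hc] at h2
    exact fix_of_eq_mul_fixed hγ (c := ⟨c, hc⟩) (Subtype.ext h1) (Subtype.ext h2) (k := n) (Subtype.ext hn)
  have a : G1b.H E (totA β) :=
    { mem := fun _ => totA_mem β
      mul := mulOn_totA β
      inj := fun x hx y hy e => by rw [← totA_inv_totA β hx, e, totA_inv_totA β hy]
      surj := fun y hy => ⟨_, totA_mem β⁻¹ hy, totA_totA_inv β hy⟩
      l1 := fun x hx c hc h1 h2 => by rw [totA_apply _ hx, l β ho x hx c hc h1 h2]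
      l2 := fun x hx c hc h1 h2 => by
        rw [totA_apply _ hx, fix_of_pow_fix ho (k := 1) (l _ (ho.of_dvd_nat (orderOf_pow_dvd _)) x hx c hc
          (by rwa [pow_one, sq, totA_mul _ _ hx]) (by rw [pow_one, sq, totA_mul _ _ hc, h2, h2]))]
      zm := hc _ fun x _ => GS.z_comm x
      hz := hz
      hB := hB }
  by_cases h2 : GS.y2 k ∈ E → totA β (GS.y2 k) = GS.y2 k
  · by_cases h1 : GS.y1 k ∈ E → totA β (GS.y1 k) = GS.y1 k
    · exact .inl (mulAut_ext_totA fun x hx => (a.case3 hc hne h2 h1 x hx).trans (totA_one hx).symm)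
    · exact .inr (a.case2 (Classical.not_imp.1 h1).1 (Classical.not_imp.1 h1).2)
  · exact .inr (a.case1 (Classical.not_imp.1 h2).1 (Classical.not_imp.1 h2).2)

end Cfsg.Agent.WQ
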