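import Mathlib
import Cfsg.Agent.WQ.Defs

/-!
The two quaternion subgroups `Q1`, `Q2` of `GS k`, treated symmetrically: odd automorphisms of
their `Q₈`-subgroups extend by the identity on the other factor.
-/

set_option autoImplicit false

namespace Cfsg.Agent.WQ.G2

open Subgroup Cfsg.FusionSystem Cfsg.Agent.Fus Cfsg.Agent.Fus.MG Cfsg.Agent.Inv Cfsg.Agent.Inv.Fz
  Cfsg.Agent.G2T

local instance : Fact (Nat.Prime 2) := ⟨Nat.prime_two⟩

theorem q8_top' {G : Type*} [Group G] [Finite G] {S A : Subgroup G} {F : FusionSystem S} {t : ℕ}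
    {k m : R2 t} {r s : R2 t → G} (H : Mx A t k m r s) (hA : A ≤ S) (ht : 2 ≤ t) {j : R2 t}
    (hj : s j * s j = r (hh t)) (h : OddA F (H.sub 2 j)) : ⊤ ≤ F.autGroup (H.sub 2 j) := by
  refine le_of_card_le_three_mul (isPGroup_autInducedBy H.isPGroup _)
    ((autInducedBy_mono hA).trans (F.autInducedBy_le_autGroup ((H.sub_le _ _).trans hA))) le_top h ?_
  obtain ⟨e⟩ := H.sub_equiv_q8 (by omega) hj
  obtain ⟨q, hq⟩ := exists_quarter ht
  have h1 := card_autInducedBy_mul A (H.sub 2 j)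
  have h2 := card_mul_relIndex (H.sub_le_sub 2 2 j)
  rw [H.relIndex_sub (w := q) (by linear_combination hq), q8_card e,
    ← H.inf_normalizer_sub] at h2
  have h3 : Nat.card (centralizerIn A (H.sub 2 j)) ≤ 2 := by
    refine (card_le_of_le (K := zpowers (r (hh t))) fun x hx => ?_).trans
      (by rw [Nat.card_zpowers, H.orderOf_z])
    rcases H.eq_of_comm_q (by omega) hx.1 hx.2 with rfl | rfl
    exacts [one_mem _, mem_zpowers _]
  rw [card_top]
  refine (QA.card_mulAut_le_of_quaternion e).trans ?_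
  have : 8 * 2 ≤ Nat.card (autInducedBy A (H.sub 2 j)) * 2 :=
    (h2.trans h1.symm).le.trans (Nat.mul_le_mul_left _ h3)
  omega

theorem odd_resA {G : Type*} [Group G] {P W : Subgroup G} (hP : P ≤ W) {β : MulAut W}
    (hβ : β ∈ stabA W P) (hc : Odd (orderOf β)) : Odd (orderOf (resA P β)) := by
  refine hc.of_dvd_nat (orderOf_dvd_of_pow_eq_one ?_)
  rw [← (mulOn_resA hP).map_pow hβ, pow_orderOf_eq_one, (mulOn_resA hP).map_one]

variable {k : ℕ}

/-- Coordinates on `Q2`. -/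
theorem mx2 (k : ℕ) :
    Mx (GS.Q2 k) (k + 1) (-1) (hf k) (fun i => GS.o i (-i)) (fun i => GS.t i (hf k - i)) :=
  Mc.mxQ
    { rr := fun i j => by simp only [GS.oo, GS.o.injEq, true_and]; ring
      rs := fun i j => by simp only [GS.ot, GS.t.injEq, true_and]; ring
      sr := fun i j => by simp only [GS.to', GS.t.injEq]; constructor <;> ring
      ss := fun i j => by
        simp only [GS.tt, GS.o.injEq]
        exact ⟨by ring, by linear_combination two_hf⟩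
      mem := fun x => ⟨fun h => by
        rcases GS.Q2_cases h with ⟨c, rfl⟩ | ⟨c, rfl⟩
        exacts [Or.inl ⟨c, rfl⟩, Or.inr ⟨c + hf k, by congr 1; ring⟩], by
        rintro (⟨i, rfl⟩ | ⟨i, rfl⟩) <;> simp⟩
      r_inj := fun i j h => (GS.o.inj h).1
      r_ne_s := fun i j h => by cases h }

/-- Coordinates on `Q1`. -/
theorem mx1 (k : ℕ) :
    Mx (GS.Q1 k) (k + 1) (-1) (hf k) (fun i => GS.o i i) (fun i => GS.v i (i - hf k)) :=
  Mc.mxQ
    { rr := fun i j => rfl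
      rs := fun i j => by simp only [GS.ov, GS.v.injEq, true_and]; ring
      sr := fun i j => by simp only [GS.vo, GS.v.injEq]; constructor <;> ring
      ss := fun i j => by
        simp only [GS.vv, GS.o.injEq]
        exact ⟨by ring, by linear_combination -two_hf⟩
      mem := fun x => ⟨fun h => by
        rcases GS.Q1_cases h with ⟨c, rfl⟩ | ⟨c, rfl⟩
        exacts [Or.inl ⟨c, rfl⟩, Or.inr ⟨c + hf k, by congr 1; ring⟩], by
        rintro (⟨i, rfl⟩ | ⟨i, rfl⟩) <;> simp⟩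
      r_inj := fun i j h => (GS.o.inj h).1
      r_ne_s := fun i j h => by cases h }

theorem isPGroup_aut (hk : 1 ≤ k) {G : Type*} [Group G] [Finite G] {A : Subgroup G}
    {r s : R k → G} (H : Mx A (k + 1) (-1) (hf k) r s) : IsPGroup 2 (MulAut A) := by
  by_contra h
  have h4 : (4 : R k) ≠ 0 := r2_four_ne_zero (by omega)
  rcases H.classify le_rfl h with ⟨j, -, e⟩ | ⟨j, -, -, e⟩
  · exact h4 (by linear_combination 2 * H.r_mem_sub.1 (e ▸ H.r_mem 1))
  · exact h4 (by linear_combination H.r_mem_sub.1 (e ▸ H.r_mem 1))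

/-- One of the two orderings of the pair `Q1`, `Q2`. -/
structure Side (A B : Subgroup (GS k)) (r s : R k → GS k) : Prop where
  mx : Mx A (k + 1) (-1) (hf k) r s
  hz : r (hf k) = GS.z k
  comm : ∀ a ∈ A, ∀ b ∈ B, a * b = b * a
  cent : ∀ j g, r (mm k) * g = g * r (mm k) → s j * g = g * s j → g ∈ B
  conj : ∀ c, ∃ g, (∀ i, g * r i * g⁻¹ = r i) ∧ ∀ i, g * s i * g⁻¹ = s (i + c)
  aut : IsPGroup 2 (MulAut B)

theorem side2 (hk : 1 ≤ k) :
    Side (GS.Q2 k) (GS.Q1 k) (fun i => GS.o i (-i)) (fun i => GS.t i (hf k - i)) where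
  mx := mx2 k
  hz := by simp [GS.z, neg_hf]
  comm := fun _ ha _ hb => (GS.Q1_comm_Q2 hb ha).symm
  cent := by
    rintro j (⟨x, y⟩ | ⟨x, y⟩ | ⟨x, y⟩ | ⟨x, y⟩) h1 h2 <;> simp at h1 h2 ⊢
    · linear_combination -h2.1
    · exact hf_ne (k := k) (by linear_combination h1.1 - two_mm)
    · exact hf_ne (k := k) (by linear_combination h1.1 - two_mm)
    · linear_combination -h2.1
  conj := fun c => ⟨GS.o c 0, fun i => by simp, fun i => by
    simp only [GS.ot, GS.inv_o, GS.to', GS.t.injEq]; constructor <;> ring⟩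
  aut := isPGroup_aut hk (mx1 k)

theorem side1 (hk : 1 ≤ k) :
    Side (GS.Q1 k) (GS.Q2 k) (fun i => GS.o i i) (fun i => GS.v i (i - hf k)) where
  mx := mx1 k
  hz := rfl
  comm := fun _ ha _ hb => GS.Q1_comm_Q2 ha hb
  cent := by
    rintro j (⟨x, y⟩ | ⟨x, y⟩ | ⟨x, y⟩ | ⟨x, y⟩) h1 h2 <;> simp at h1 h2 ⊢
    · linear_combination -h2.1
    · linear_combination -h2.1
    · exact hf_ne (k := k) (by linear_combination h1.1 - two_mm)
    · exact hf_ne (k := k) (by linear_combination h1.1 - two_mm)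
  conj := fun c => ⟨GS.o c 0, fun i => by simp, fun i => by
    simp only [GS.ov, GS.inv_o, GS.vo, GS.v.injEq]; constructor <;> ring⟩
  aut := isPGroup_aut hk (mx2 k)

/-- Elements whose square is `a0` or `b0` lie in `T`. -/
theorem mem_T_of_sq {w : GS k} (h : w * w = GS.a0 k ∨ w * w = GS.b0 k) : w ∈ GS.T k := by
  rcases w with ⟨x, y⟩ | ⟨x, y⟩ | ⟨x, y⟩ | ⟨x, y⟩ <;> simp [GS.a0, GS.b0] at h ⊢
  · rcases h with h | h
    exacts [hf_ne (k := k) (by linear_combination h.2 - h.1),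
      hf_ne (k := k) (by linear_combination h.1 - h.2)]
  · exact hf_ne (k := k) h.symm
  · rcases h with h | h
    exacts [hf_ne (k := k) (by linear_combination -h.2 - h.1),
      hf_ne (k := k) (by linear_combination -h.1 - h.2)]

theorem T_comm {x y : GS k} (hx : x ∈ GS.T k) (hy : y ∈ GS.T k) : x * y = y * x := by
  obtain ⟨a, b, rfl⟩ := hx
  obtain ⟨c, d, rfl⟩ := hy
  simp [add_comm]

variable {F : FusionSystem (⊤ : Subgroup (GS k))} {P : Subgroup (GS k)} {f : GS k → GS k}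

theorem sq_map_z (hf : F.Mor P f) {x : GS k} (hx : x ∈ P) (e : x * x = GS.z k) :
    f (GS.z k) = GS.z k ∨ f (GS.z k) = GS.a0 k ∨ f (GS.z k) = GS.b0 k := by
  have hz : GS.z k ∈ P := e ▸ mul_mem hx hx
  refine GS.sq_inv_cases (w := f x) (by rw [← hf.map_mul hx hx, e]) ?_
    fun h => GS.z_ne_one ((hf.eq_one_iff hz).1 h)
  rw [← hf.map_mul hz hz, GS.z_sq, hf.map_one]

theorem fix_z (hf : F.Mor P f) {x y : GS k} (hx : x ∈ P) (hy : y ∈ P) (ex : x * x = GS.z k)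
    (ey : y * y = GS.z k) (hc : x * y ≠ y * x) : f (GS.z k) = GS.z k := by
  refine (sq_map_z hf hx ex).resolve_right fun h => hc ((hf.commute_iff hx hy).1 (T_comm ?_ ?_))
  · exact mem_T_of_sq (by rwa [← hf.map_mul hx hx, ex])
  · exact mem_T_of_sq (by rwa [← hf.map_mul hy hy, ey])

/-- Maps fixing `z` send elements of order four of `A` into `A`. -/
def Pres (F : FusionSystem (⊤ : Subgroup (GS k))) (A : Subgroup (GS k)) : Prop :=
  ∀ P f, F.Mor P f → f (GS.z k) = GS.z k → ∀ x ∈ P, x ∈ A → x * x = GS.z k → f x ∈ A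

theorem sc_iff (h : GF F) (hf : F.Mor P f) (hz : GS.z k ∈ P) (e : f (GS.z k) = GS.z k) {x : GS k}
    (hx : x ∈ P) : f x ∈ GS.Q2 k ↔ x ∈ GS.Q2 k := by
  refine ⟨fun h1 => ?_, h.sc P f hf hz e x hx⟩
  obtain ⟨g, hg, e1, -⟩ := hf.inv
  have := h.sc _ g hg.mor (e ▸ mem_img_of_mem hz) (by rw [← e, e1 _ hz, e]) _ (mem_img_of_mem hx) h1
  rwa [e1 x hx] at this

theorem pres2 (h : GF F) : Pres F (GS.Q2 k) := fun P f hf e x hx hA ex =>
  h.sc P f hf (ex ▸ mul_mem hx hx) e x hx hA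

theorem pres1 (h : GF F) : Pres F (GS.Q1 k) := fun P f hf e x hx hA ex => by
  refine (GS.mem_of_sq_eq_z (by rw [← hf.map_mul hx hx, ex, e])).resolve_right fun h2 => ?_
  rcases GS.mem_Q1_inf_Q2 hA ((sc_iff h hf (ex ▸ mul_mem hx hx) e hx).1 h2) with rfl | rfl
  exacts [GS.z_ne_one (by rw [← ex, mul_one]), GS.z_ne_one (by rw [← ex, GS.z_sq])]

namespace Side

variable {A B : Subgroup (GS k)} {r s : R k → GS k} (D : Side A B r s)
include D

theorem s_sq (j : R k) : s j * s j = r (hh (k + 1)) := by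
  rw [D.mx.ss, D.mx.r_eq]; ring

theorem r_mm_mem (j : R k) : r (mm k) ∈ D.mx.sub 2 j :=
  D.mx.r_mem_sub.2 (by linear_combination 2 * two_mm + two_hf)

theorem r_mm_sq : r (mm k) * r (mm k) = GS.z k := by
  rw [D.mx.rr, ← two_mul, two_mm, D.hz]

theorem cent_eq (j : R k) : centralizerIn ⊤ (D.mx.sub 2 j) = B :=
  le_antisymm (fun g hg => D.cent j g (hg.2 _ (D.r_mm_mem j)) (hg.2 _ (D.mx.s_mem_sub_self 2 j)))
    fun g hg => ⟨trivial, fun x hx => D.comm x (D.mx.sub_le 2 j hx) g hg⟩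

theorem oddA_iff (j : R k) : OddA F (D.mx.sub 2 j) ↔ OddA F (D.mx.sub 2 0) := by
  obtain ⟨g, h1, h2⟩ := D.conj j
  rw [← oddA_cj (P := D.mx.sub 2 0) le_top (mem_top g)]
  have h1' : ∀ i, g⁻¹ * r i * g = r i := fun i => by
    conv_lhs => rw [← h1 i]
    group
  have h2' : ∀ i, g⁻¹ * s i * g = s (i - j) := fun i => by
    have := h2 (i - j); rw [sub_add_cancel] at this; rw [← this]; group
  rw [D.mx.eq_sub (P := cj g (D.mx.sub 2 0)) (c := 2) (j := j) (cj_le_iff.2 fun x hx => ?_)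
    (mem_cj.2 (by rw [h2', sub_self]; exact D.mx.s_mem_sub_self 2 0))
    fun i => by rw [mem_cj, h1', D.mx.r_mem_sub]]
  obtain ⟨i, rfl | rfl⟩ := D.mx.cases (D.mx.sub_le 2 0 hx)
  exacts [(h1 i).symm ▸ D.mx.r_mem i, (h2 i).symm ▸ D.mx.s_mem _]

theorem img_sub (hp : Pres F A) {j : R k} (hf : F.Mor (D.mx.sub 2 j) f) :
    ∃ j', img f (D.mx.sub 2 j) = D.mx.sub 2 j' := by
  have hz : f (GS.z k) = GS.z k := fix_z hf (D.r_mm_mem j) (D.mx.s_mem_sub_self 2 j) D.r_mm_sq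
    ((D.s_sq j).trans D.hz) fun e =>
      hf_ne (k := k) (by linear_combination D.mx.rs_comm_iff.1 e - two_mm)
  obtain ⟨e⟩ := D.mx.sub_equiv_q8 (by omega) (D.s_sq j)
  obtain ⟨j', -, -, h⟩ := D.mx.eq_sub_of_q8 (Q := img f (D.mx.sub 2 j)) (img_le_iff.2 fun x hx => by
    have hxA := D.mx.sub_le 2 j hx
    obtain ⟨i, rfl | rfl⟩ := D.mx.cases hxA
    · rcases (two_eq_zero (x := 2 * i)).1 (by linear_combination D.mx.r_mem_sub.1 hx) with h | h
      · rcases two_eq_zero.1 h with rfl | rfl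
        · rw [D.mx.r_zero, hf.map_one]; exact one_mem _
        · rw [D.hz, hz, ← D.hz]; exact hxA
      · exact hp _ f hf hz _ hx hxA (by rw [D.mx.rr, ← two_mul, h, D.hz])
    · exact hp _ f hf hz _ hx hxA ((D.s_sq i).trans D.hz)) (hf.iso_img.equiv.symm.trans e)
  exact ⟨j', h⟩

theorem fullyCentralized (hp : Pres F A) (j : R k) : F.IsFullyCentralized (D.mx.sub 2 j) := by
  refine ⟨le_top, fun Q hQ => ?_⟩
  obtain ⟨f, hf⟩ := hQ.exists_iso
  obtain ⟨j', h⟩ := D.img_sub hp hf.mor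
  rw [← hf.img_eq, h, D.cent_eq, D.cent_eq]

theorem ext (hk : 1 ≤ k) (hF : F.IsSaturated 2) (hp : Pres F A) (ho : OddA F (D.mx.sub 2 0))
    {j : R k} {ψ : MulAut (D.mx.sub 2 j)} (hψ : Odd (orderOf ψ)) :
    ∃ g, F.Mor (D.mx.sub 2 j ⊔ B) g ∧ (∀ x ∈ D.mx.sub 2 j, g x = totA ψ x) ∧ ∀ x ∈ B, g x = x := by
  have hS : IsPGroup 2 (⊤ : Subgroup (GS k)) := GS.isPGroup.to_subgroup _
  have h1 : ψ ∈ F.autGroup _ :=
    q8_top' D.mx le_top (by omega) (D.s_sq j) ((D.oddA_iff j).2 ho) (mem_top ψ)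
  have h2 := iso_totA le_top h1
  obtain ⟨g, hg, e⟩ := hF.extend_centralizerIn hS (D.fullyCentralized hp j) h2
  have hB : ∀ x ∈ B, g x ∈ B := fun x hx => by
    have hx' := (D.cent_eq j).ge hx
    have := hg.maps_centralizerIn le_sup_left (mem_sup_right hx') hx'
    rwa [img_congr e, h2.img_eq, D.cent_eq] at this
  rw [D.cent_eq] at hg
  obtain ⟨γ, hγ, eγ⟩ := hg.exists_aut le_rfl (hg.mulOn.mapsTo_sup
    (fun x hx => mem_sup_left (e x hx ▸ totA_mem ψ hx)) fun x hx => mem_sup_right (hB x hx))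
  obtain ⟨n, hn, hn1⟩ := exists_pow_coprime 2 γ (Nat.coprime_two_right.2 hψ)
  have hst : γ ^ n ∈ stabA _ B :=
    pow_mem (mem_stabA_of_maps le_sup_right fun x hx => eγ x (mem_sup_right hx) ▸ hB x hx) n
  refine ⟨totA (γ ^ n), mor_totA le_top (pow_mem hγ n), fun x hx => ?_, fun x hx => ?_⟩
  · rw [totA_pow_of_extends le_sup_left (fun x hx => (eγ x (mem_sup_left hx)).symm.trans (e x hx))
      n x hx, pow_eq_pow_of_modEq hn1 (pow_orderOf_eq_one ψ), pow_one]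
  · have h3 : resA B (γ ^ n) = 1 := by
      by_contra h
      exact not_isPGroup_of_odd (mem_top _)
        (odd_resA le_sup_right hst (Nat.coprime_two_right.1 hn)) h (D.aut.to_subgroup _)
    rw [← totA_resA le_sup_right hst hx, h3, totA_one hx]

/-- A subgroup of `A` with a nontrivial automorphism of odd order is a `Q₈`. -/
theorem eq_sub {X : Subgroup (GS k)} (hX : X ≤ A) {ψ : MulAut X} (hψ : Odd (orderOf ψ))
    (h1 : ψ ≠ 1) : ∃ j, X = D.mx.sub 2 j := by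
  rcases D.mx.classify hX (fun h => not_isPGroup_of_odd (mem_top ψ) hψ h1 (h.to_subgroup _)) with
    ⟨j, hj, -⟩ | ⟨j, -, -, e⟩
  exacts [absurd ((D.s_sq j).symm.trans hj) D.mx.z_ne_one, ⟨j, e⟩]

theorem ext' (hk : 1 ≤ k) (hF : F.IsSaturated 2) (hp : Pres F A) (ho : OddA F (D.mx.sub 2 0))
    {X : Subgroup (GS k)} (hX : X ≤ A) {ψ : MulAut X} (hψ : Odd (orderOf ψ)) :
    ∃ g, F.Mor (X ⊔ B) g ∧ (∀ x ∈ X, g x = totA ψ x) ∧ ∀ x ∈ B, g x = x := by
  by_cases h1 : ψ = 1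
  · exact ⟨fun x => x, F.mor_id le_top, fun x hx => by rw [h1, totA_one hx], fun _ _ => rfl⟩
  obtain ⟨j, rfl⟩ := D.eq_sub hX hψ h1
  exact D.ext hk hF hp ho hψ

theorem eq_one (ho : ¬ OddA F (D.mx.sub 2 0)) {X : Subgroup (GS k)} (hX : X ≤ A) {ψ : MulAut X}
    (hF : ψ ∈ F.autGroup X) (hψ : Odd (orderOf ψ)) : ψ = 1 := by
  by_contra h1
  obtain ⟨j, rfl⟩ := D.eq_sub hX hψ h1
  exact ho ((D.oddA_iff j).1 (not_isPGroup_of_odd hF hψ h1))

end Side

end Cfsg.Agent.WQ.G2
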