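import Mathlib
import Cfsg.Agent.WQ.G1a
import Cfsg.Agent.WQ.G1b
import Cfsg.Agent.WQ.G2a

/-! The properties `GF` determine the fusion system on `GS k`. -/

set_option autoImplicit false

namespace Cfsg.Agent.WQ

open Subgroup Cfsg.FusionSystem Cfsg.Agent.Fus Cfsg.Agent.Fus.MG Cfsg.Agent.Inv.Fz Cfsg.Agent.G2T

namespace G2

local instance : Fact (Nat.Prime 2) := ⟨Nat.prime_two⟩

variable {k : ℕ} {F : FusionSystem (⊤ : Subgroup (GS k))} {E : Subgroup (GS k)}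

theorem top_pg : IsPGroup 2 (⊤ : Subgroup (GS k)) := GS.isPGroup.to_subgroup _

/-- The automorphism of order three of `CC k`. -/
def alf : GS k → GS k
  | .o x y => .o y (-x - y)
  | .u x y => .u y (-x - y)
  | g => g

theorem mor_alf (h : GF F) : F.Mor (CC k) alf := by
  obtain ⟨f, hf, e1, e2⟩ := h.al
  refine hf.congr fun g hg => ?_
  obtain ⟨x, y, rfl | rfl⟩ := mem_CC.1 hg
  · exact e1 x y
  · rw [show GS.u x y = GS.o x y * GS.u 0 0 by simp, hf.map_mul o_mem_CC u_mem_CC, e1, e2]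
    simp [alf]

theorem exists_alf (h : GF F) :
    ∃ α ∈ F.autGroup (CC k), ∀ x ∈ CC k, alf x = totA α x :=
  (mor_alf h).exists_aut le_rfl fun g hg => by
    obtain ⟨x, y, rfl | rfl⟩ := mem_CC.1 hg <;> simp [alf]

/-- The second alternative of `fix_case`. -/
structure Dec (E : Subgroup (GS k)) (β : MulAut E) : Prop where
  dec : ∀ x ∈ E, ∃ c ∈ E ⊓ GS.Q1 k, ∃ d ∈ E ⊓ GS.Q2 k, x = c * d
  st1 : β ∈ stabA E (E ⊓ GS.Q1 k)
  st2 : β ∈ stabA E (E ⊓ GS.Q2 k)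

theorem dec_of_fix (hk : 1 ≤ k) (h : GF F) (hE : E = ⊤ ∨ F.IsEssential 2 E) {β : MulAut E}
    (hβ : β ∈ F.autGroup E) (ho : Odd (orderOf β)) (h1 : β ≠ 1)
    (hz : totA β (GS.z k) = GS.z k) : Dec E β := by
  have hc := centric_of_top_or_essential hE
  have hzE : GS.z k ∈ E := hc.mem trivial fun x _ => GS.z_comm x
  have hB := fun x (hx : x ∈ E) => sc_iff h (mor_totA le_top hβ) hzE hz hx
  obtain ⟨h2, h3⟩ := (fix_case hk (fun g hg => hc.mem trivial hg) (not_elem hk h.sat hE) ho hz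
    hB).resolve_left h1
  exact ⟨h2, mem_stabA_of_maps inf_le_left fun x hx => ⟨totA_mem β hx.1, h3 x hx.1 hx.2⟩,
    mem_stabA_of_maps inf_le_left fun x hx => ⟨totA_mem β hx.1, (hB x hx.1).2 hx.2⟩⟩

theorem not_dec {β : MulAut (CC k)} : ¬ Dec (CC k) β := fun h => by
  obtain ⟨c, ⟨h1, h2⟩, d, ⟨h3, h4⟩, e⟩ := h.dec (GS.u 0 0) u_mem_CC
  obtain ⟨x, y, rfl | rfl⟩ := mem_CC.1 h1 <;> obtain ⟨a, b, rfl | rfl⟩ := mem_CC.1 h3 <;>
    simp at h2 h4 e

theorem aut_le (hk : 1 ≤ k) (h : GF F) (hE : E = ⊤ ∨ F.IsEssential 2 E) {K : Subgroup (MulAut E)}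
    (h1 : autInducedBy ⊤ E ≤ K)
    (h2 : E = CC k → ∀ α : MulAut E, (∀ x ∈ E, alf x = totA α x) → α ∈ K)
    (h3 : ∀ β ∈ F.autGroup E, Odd (orderOf β) → Dec E β → β ∈ K) : F.autGroup E ≤ K := by
  have hA := h.sat.fullyAutomized top_pg (fullyNormalized_of_top_or_essential hE)
  by_cases hC : E = CC k
  swap
  · exact autGroup_le_of_odd top_pg hA h1 fun β hβ ho hβ1 => h3 β hβ ho (dec_of_fix hk h hE hβ ho hβ1
      (not_not.1 fun e => hC (eq_CC hk h.sat hE (iso_totA le_top hβ) e)))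
  subst hC
  have hz : GS.z k ∈ CC k := o_mem_CC
  have hst : ∀ {α : MulAut (CC k)}, α ∈ MulAction.stabilizer (MulAut (CC k)) (⟨_, hz⟩ : CC k) ↔
      totA α (GS.z k) = GS.z k := by
    intro α; rw [totA_apply α hz]; exact Subtype.ext_iff
  have key : ∀ γ ∈ F.autGroup (CC k), totA γ (GS.z k) = GS.z k → γ ∈ K := fun γ hγ e =>
    h1 (hA.le_of_isPGroup top_pg
      (A := F.autGroup (CC k) ⊓ MulAction.stabilizer (MulAut (CC k)) (⟨_, hz⟩ : CC k))
      (isPGroup_of_forall_coprime fun β hβ hc => not_not.1 fun hβ1 => not_dec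
        (dec_of_fix hk h hE hβ.1 (Nat.coprime_two_right.1 hc) hβ1 (hst.1 hβ.2))) inf_le_left
      (le_inf (F.autInducedBy_le_autGroup le_top) fun β hβ => by
        obtain ⟨s, -, e⟩ := mem_autInducedBy.1 hβ
        exact Subtype.ext ((e _).trans (GS.conj_z s))) ⟨hγ, hst.2 e⟩)
  obtain ⟨α, hα, eα⟩ := exists_alf h
  have hαK := h2 rfl α eα
  intro γ hγ
  rcases sq_map_z (mor_totA le_top hγ) (x := GS.y1 k) o_mem_CC GS.y1_sq with e | e | e
  · exact key γ hγ e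
  · refine (K.mul_mem_cancel_left (inv_mem hαK)).1 (key _ (mul_mem (inv_mem hα) hγ) ?_)
    have : totA α (GS.z k) = GS.a0 k := by
      rw [← eα _ hz]; simp only [GS.z, GS.a0, alf, GS.o.injEq, true_and]
      linear_combination -two_hf
    rw [totA_mul _ _ hz, e, ← this, totA_inv_totA _ hz]
  · refine (K.mul_mem_cancel_left hαK).1 (key _ (mul_mem hα hγ) ?_)
    rw [totA_mul _ _ hz, e, ← eα (GS.b0 k) o_mem_CC]
    simp [GS.z, GS.b0, alf, neg_hf]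

theorem comm_mem_T (x g : GS k) : x⁻¹ * (g * x * g⁻¹) ∈ GS.T k := by
  rcases x with ⟨x, y⟩ | ⟨x, y⟩ | ⟨x, y⟩ | ⟨x, y⟩ <;>
    rcases g with ⟨a, b⟩ | ⟨a, b⟩ | ⟨a, b⟩ | ⟨a, b⟩ <;> simp

theorem oddA_of {A B M : Subgroup (GS k)} {r s : R k → GS k} (D : Side A B r s) (hk : 1 ≤ k)
    (h : GF F) (hT : GS.T k ≤ M) (hB : B ≤ M) (hM : M ≠ ⊤)
    (hd : ∀ E β, Dec E β → (∀ x ∈ E, ∃ c ∈ E ⊓ A, ∃ d ∈ E ⊓ B, x = c * d) ∧
      β ∈ stabA E (E ⊓ A) ∧ β ∈ stabA E (E ⊓ B)) : OddA F (D.mx.sub 2 0) := by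
  by_contra ho
  have hstep : ∀ E, (E = ⊤ ∨ F.IsEssential 2 E) → ∀ g, F.Iso E E g → ∀ x ∈ E, x⁻¹ * g x ∈ M := by
    intro E hE g hg x hx
    have hm : ∀ {α : MulAut E}, (∀ x ∈ E, x⁻¹ * totA α x ∈ M) → α ∈ secStab E E M :=
      fun {α} h => ⟨fun x hx => iff_of_true (totA_mem α hx) hx, fun x hx _ => h x hx⟩
    obtain ⟨α, hα, e⟩ := hg.exists_aut
    refine e x hx ▸ (aut_le hk h hE (K := secStab E E M) (fun β hβ => hm fun x hx => ?_)
      (fun hC β hβ => hm fun x hx => ?_) (fun β hβ hβo hβd => hm fun x hx => ?_) hα).2 x hx hx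
    · obtain ⟨s, hs, rfl⟩ := mem_autInducedBy_iff_cAut.1 hβ
      rw [totA_cAut hs.2 hx]
      exact hT (comm_mem_T x s)
    · rw [← hβ x hx]
      obtain ⟨a, b, rfl | rfl⟩ := mem_CC.1 (hC ▸ hx) <;> exact hT (by simp [alf])
    · obtain ⟨h1, h2, h3⟩ := hd E β hβd
      obtain ⟨c, hc, d, hd, rfl⟩ := h1 x hx
      have h4 := D.eq_one ho inf_le_right (resA_mem_autGroup le_top inf_le_left hβ h2)
        (odd_resA inf_le_left h2 hβo)
      rw [(mulOn_totA β).map_mul hc.1 hd.1, ← totA_resA inf_le_left h2 hc, h4, totA_one hc]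
      simpa [mul_assoc] using hB (mul_mem (inv_mem hd.2) ((h3 d hd.1).2 hd).2)
  refine hM (top_le_iff.1 (h.foc.ge.trans (focal_le_iff.2 fun P f hf => ?_)))
  exact h.sat.alperin_induction top_pg (M := fun f => ∀ x ∈ P, x⁻¹ * f x ∈ M)
    (fun x _ => by simp) (fun h1 e x hx => e x hx ▸ h1 x hx)
    (fun _ h1 hR hg h2 x hx => by
      simpa [mul_assoc] using mul_mem (h1 x hx) (hstep _ hR _ hg _ (h2 x hx))) hf

/-- Membership in `T ⟨t⟩`. -/
def InM : GS k → Prop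
  | .o _ _ => True
  | .t _ _ => True
  | _ => False

/-- The subgroup `T ⟨t⟩` of index two. -/
def MT (k : ℕ) : Subgroup (GS k) where
  carrier := {g | InM g}
  one_mem' := trivial
  mul_mem' := by rintro (_ | _ | _ | _) (_ | _ | _ | _) h h' <;> trivial
  inv_mem' := by rintro (_ | _ | _ | _) h <;> trivial

theorem oddA1 (hk : 1 ≤ k) (h : GF F) : OddA F ((side1 hk).mx.sub 2 0) := by
  refine oddA_of (M := MT k) (side1 hk) hk h ?_ ?_ ?_ fun E β h => ⟨h.dec, h.st1, h.st2⟩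
  · rintro _ ⟨x, y, rfl⟩; trivial
  · rintro (_ | _ | _ | _) h <;> trivial
  · exact fun e => e.ge (mem_top (GS.u 0 0))

theorem oddA2 (hk : 1 ≤ k) (h : GF F) : OddA F ((side2 hk).mx.sub 2 0) := by
  refine oddA_of (M := (MT k).comap (GS.β k).toMonoidHom) (side2 hk) hk h ?_ ?_ ?_
    fun E β h => ⟨fun x hx => ?_, h.st2, h.st1⟩
  · rintro _ ⟨x, y, rfl⟩; trivial
  · rintro (_ | _ | _ | _) h <;> trivial
  · exact fun e => e.ge (mem_top (GS.u 0 0))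
  · obtain ⟨c, hc, d, hd, rfl⟩ := h.dec x hx
    exact ⟨d, hd, c, hc, GS.Q1_comm_Q2 hc.2 hd.2⟩

theorem mem_of_dec (hk : 1 ≤ k) (h : GF F) {β : MulAut E} (ho : Odd (orderOf β)) (hd : Dec E β) :
    β ∈ F.autGroup E := by
  obtain ⟨g1, hg1, e1, e1'⟩ := (side1 hk).ext' hk h.sat (pres1 h) (oddA1 hk h) inf_le_right
    (odd_resA inf_le_left hd.st1 ho)
  obtain ⟨g2, hg2, e2, e2'⟩ := (side2 hk).ext' hk h.sat (pres2 h) (oddA2 hk h) inf_le_right
    (odd_resA inf_le_left hd.st2 ho)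
  have h2 : ∀ c ∈ E ⊓ GS.Q1 k, ∀ d ∈ E ⊓ GS.Q2 k, g2 (c * d) = c * totA β d := fun c hc d hd' => by
    rw [hg2.map_mul (mem_sup_right hc.2) (mem_sup_left hd'), e2' c hc.2, e2 d hd',
      totA_resA inf_le_left hd.st2 hd']
  refine (mem_autGroup_iff le_top).2 ((hg1.comp (hg2.mono (Q := E) fun x hx => ?_)
    fun x hx => ?_).congr fun x hx => ?_) <;> obtain ⟨c, hc, d, hd', rfl⟩ := hd.dec x hx
  · exact mul_mem (mem_sup_right hc.2) (mem_sup_left hd')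
  · rw [h2 c hc d hd']
    exact mul_mem_sup hc ((hd.st2 d hd'.1).2 hd').2
  · have h3 := ((hd.st2 d hd'.1).2 hd').2
    rw [h2 c hc d hd', hg1.map_mul (mem_sup_left hc) (mem_sup_right h3), e1 c hc, e1' _ h3,
      totA_resA inf_le_left hd.st1 hc, (mulOn_totA β).map_mul hc.1 hd'.1]

end G2

variable {k : ℕ}

theorem GF.le (hk : 1 ≤ k) {F F' : FusionSystem (⊤ : Subgroup (GS k))} (h : GF F) (h' : GF F') :
    F ≤ F' := by
  have : Fact (Nat.Prime 2) := ⟨Nat.prime_two⟩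
  refine le_iff_mor.2 fun P f hf => h.sat.mor_of_alperin G2.top_pg (fun E g hE hg => ?_) hf
  obtain ⟨α, hα, e⟩ := hg.exists_aut
  refine (mor_totA le_top (G2.aut_le hk h hE (F'.autInducedBy_le_autGroup le_top)
    (fun hC β hβ => ?_) (fun β _ ho hd => G2.mem_of_dec hk h' ho hd) hα)).congr e
  subst hC
  exact (mem_autGroup_iff le_top).2 ((G2.mor_alf h').congr hβ)

end Cfsg.Agent.WQ
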