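import Mathlib
import Cfsg.Agent.WQ.Defs
import Cfsg.Agent.WQ.OctA
import Cfsg.Agent.Oct.Invol
import Cfsg.Agent.Cl.Syl2SO
import Cfsg.Agent.Fus.MxGrp

/-!
The 2-fusion system of `G₂(q)` on the model group `GS k`.
-/

set_option autoImplicit false

namespace Cfsg.Agent.WQ

open Subgroup Cfsg.FusionSystem Cfsg.Agent.Fus Cfsg.Agent.Inv.Fz Cfsg.Agent.G2T

namespace Oct

open Cfsg.Agent.Oct Cfsg.Agent.Cl

variable {k : ℕ}

/-- The facts on an embedding of `GS k` that determine the fusion system. -/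
structure Dat {G : Type*} [Group G] (ι : GS k →* G) : Prop where
  hz : ι (GS.z k) ≠ 1
  card : ¬ 2 ^ (2 * k + 7) ∣ Nat.card (centralizer ({ι (GS.z k)} : Set G))
  sc : ∀ g, g * ι (GS.z k) * g⁻¹ = ι (GS.z k) → ∀ x ∈ GS.Q2 k, ∀ y, g * ι x * g⁻¹ = ι y →
    y ∈ GS.Q2 k
  al : ∃ c, (∀ x y, c * ι (GS.o x y) * c⁻¹ = ι (GS.o y (-x - y))) ∧
    c * ι (GS.u 0 0) * c⁻¹ = ι (GS.u 0 0)
  g1 : ∃ g, g * ι (GS.y1 k) * g⁻¹ = ι (GS.x1 k)
  g2 : ∃ g, g * ι (GS.y2 k) * g⁻¹ = ι (GS.x2 k)

section Generic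

variable {G G' : Type*} [Group G] [Group G'] {ι : GS k →* G}

theorem Dat.map (h : Dat ι) (e : G ≃* G') : Dat (e.toMonoidHom.comp ι) where
  hz := fun h1 => h.hz (e.injective (h1.trans (map_one e).symm))
  card := by
    have : centralizer ({e (ι (GS.z k))} : Set G') =
        (centralizer ({ι (GS.z k)} : Set G)).map e.toMonoidHom := by
      ext g
      obtain ⟨g, rfl⟩ := e.surjective g
      rw [mem_centralizer_singleton_iff, ← map_mul, ← map_mul, e.injective.eq_iff,
        ← mem_centralizer_singleton_iff]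
      exact (mem_map_iff_mem (f := e.toMonoidHom) e.injective).symm
    change ¬ _ ∣ Nat.card (centralizer ({e (ι (GS.z k))} : Set G'))
    rw [this, card_map_of_injective e.injective]
    exact h.card
  sc := fun g hg x hx y hy => by
    obtain ⟨g, rfl⟩ := e.surjective g
    refine h.sc g (e.injective ?_) x hx y (e.injective ?_)
    · simpa using hg
    · simpa using hy
  al := by
    obtain ⟨c, h1, h2⟩ := h.al
    exact ⟨e c, fun x y => by simpa using congrArg e (h1 x y), by simpa using congrArg e h2⟩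
  g1 := by
    obtain ⟨c, h1⟩ := h.g1
    exact ⟨e c, by simpa using congrArg e h1⟩
  g2 := by
    obtain ⟨c, h1⟩ := h.g2
    exact ⟨e c, by simpa using congrArg e h1⟩

theorem Dat.inj (h : Dat ι) : Function.Injective ι := GS.injective_of_z ι h.hz

theorem Dat.sylow [Finite G] (h : Dat ι) : ∃ T : Sylow 2 G, (T : Subgroup G) = ι.range := by
  have hp : IsPGroup 2 ι.range := GS.isPGroup.of_surjective _ ι.rangeRestrict_surjective
  obtain ⟨T, hT⟩ := hp.exists_le_sylow
  refine ⟨T, (eq_of_le_of_not_lt hT fun hlt => ?_).symm⟩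
  have h1 := lt_normalizerIn T.isPGroup' hlt
  set N := normalizerIn (T : Subgroup G) ι.range with hN
  have hc : N ≤ centralizer ({ι (GS.z k)} : Set G) := fun n hn => by
    have hn' : n ∈ normalizer (ι.range : Set G) := hn.2
    obtain ⟨y, hy⟩ : n * ι (GS.z k) * n⁻¹ ∈ ι.range := (mem_normalizer_iff.1 hn' _).1 ⟨_, rfl⟩
    have hcen : ∀ s, s * y = y * s := fun s => h.inj (by
      obtain ⟨s', hs'⟩ : n⁻¹ * ι s * n⁻¹⁻¹ ∈ ι.range :=
        (mem_normalizer_iff.1 (inv_mem hn') _).1 ⟨_, rfl⟩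
      have e : ι s = n * ι s' * n⁻¹ := by rw [hs']; group
      have e2 := congrArg ι (GS.z_comm s')
      rw [map_mul, map_mul] at e2
      rw [map_mul, map_mul, hy, e, conj_mul, conj_mul, e2])
    rw [mem_centralizer_singleton_iff, ← mul_inv_eq_iff_eq_mul, ← hy]
    rcases GS.eq_of_central hcen with rfl | rfl
    · rw [map_one, eq_comm, conj_eq_one_iff] at hy
      exact absurd hy h.hz
    · rfl
  obtain ⟨n, hn⟩ := (T.isPGroup'.to_le (show N ≤ T from inf_le_left)).exists_card_eq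
  have h2 : Nat.card ι.range = 2 ^ (2 * k + 6) := by
    rw [← GS.card (k := k)]
    exact (Nat.card_congr (MonoidHom.ofInjective h.inj).toEquiv).symm
  have h3 : Nat.card ι.range < Nat.card N := by
    refine lt_of_le_of_ne (card_le_of_le h1.le) fun e => h1.ne ?_
    exact eq_of_le_of_card_ge h1.le e.ge
  rw [h2, hn, Nat.pow_lt_pow_iff_right one_lt_two] at h3
  exact h.card (((pow_dvd_pow 2 h3).trans hn.symm.dvd).trans (card_dvd_of_le hc))

theorem Dat.gd [Finite G] (h : Dat ι) {T : Sylow 2 G} (hT : (T : Subgroup G) = ι.range) :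
    GD (groupFusionSystem (T : Subgroup G)) ι := by
  have hm : ∀ x, ι x ∈ (T : Subgroup G) := fun x => hT ▸ ⟨x, rfl⟩
  obtain ⟨c, hc, hcu⟩ := h.al
  refine ⟨isSaturated_sylow T, h.inj, hT.symm, fun P f hf hz hfz x hx hxP => ?_, ?_, ?_⟩
  · obtain ⟨-, h2, g, hg⟩ := mor_group_iff.1 hf
    obtain ⟨y, hy⟩ : f (ι x) ∈ ι.range := hT ▸ h2 _ hxP
    exact ⟨y, h.sc g ((hg _ hz).symm.trans hfz) x hx y ((hg _ hxP).symm.trans hy.symm), hy.symm⟩
  · refine ⟨fun x => c * x * c⁻¹, mor_group_conj ?_ ?_, hc, hcu⟩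
    · rintro _ ⟨x, -, rfl⟩
      exact hm x
    · rintro _ ⟨g, hg, rfl⟩
      obtain ⟨x, y, rfl | rfl⟩ := mem_CC.1 hg
      · exact hc x y ▸ hm _
      · have e : (GS.u x y : GS k) = GS.o x y * GS.u 0 0 := by simp
        rw [e, map_mul, ← conj_mul, hc, hcu]
        exact mul_mem (hm _) (hm _)
  · refine le_antisymm (focal_le _) ?_
    set Φ := (groupFusionSystem (T : Subgroup G)).focalSubgroup
    have key : ∀ g x y, g * ι x * g⁻¹ = ι y → x⁻¹ * y ∈ Φ.comap ι := fun g x y e => by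
      have h1 : (groupFusionSystem (T : Subgroup G)).Mor (zpowers (ι x)) fun w => g * w * g⁻¹ :=
        mor_group_conj (zpowers_le_of_mem (hm x)) (by
          rintro _ ⟨n, rfl⟩
          beta_reduce
          rw [← conj_zpow, e]
          exact zpow_mem (hm y) n)
      have h2 := h1.mem_focal (mem_zpowers (ι x))
      rw [mem_comap, map_mul, map_inv, ← e]
      exact h2
    have ho : ∀ p q : R k, GS.o p q ∈ Φ.comap ι := fun p q => by
      obtain ⟨w, hw⟩ := exists_mul_odd (1 : R k)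
      have := key c _ _ (hc (w * (-q - 2 * p)) (w * (p - q)))
      simp only [GS.inv_o, GS.oo] at this
      convert this using 2
      · linear_combination (-p) * hw
      · linear_combination (-q) * hw
    obtain ⟨g1, h1⟩ := h.g1
    obtain ⟨g2, h2⟩ := h.g2
    have hv : GS.x1 k ∈ Φ.comap ι := by
      have := mul_mem (show GS.y1 k ∈ Φ.comap ι from ho _ _) (key _ _ _ h1)
      rwa [mul_inv_cancel_left] at this
    have ht : GS.x2 k ∈ Φ.comap ι := by
      have := mul_mem (show GS.y2 k ∈ Φ.comap ι from ho _ _) (key _ _ _ h2)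
      rwa [mul_inv_cancel_left] at this
    rw [hT]
    rintro _ ⟨g, rfl⟩
    change g ∈ Φ.comap ι
    rcases g with ⟨x, y⟩ | ⟨x, y⟩ | ⟨x, y⟩ | ⟨x, y⟩
    · exact ho x y
    · simpa [GS.x2] using mul_mem (ho (x - hf k) y) ht
    · simpa [GS.x1, GS.x2] using mul_mem (ho (x - hf k) (y - hf k)) (mul_mem ht hv)
    · simpa [GS.x1] using mul_mem (ho (x - hf k) y) hv

end Generic

section Zorn

variable {K : Type} [Field K]

theorem card_cent [Fintype K] {m : ℕ} (hK : Fintype.card K = 2 ^ (k + 2) * (2 * m + 1) + 1)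
    {z : (zorn K).Aut} (hz : z * z = 1) (hz1 : z ≠ 1) :
    ¬ 2 ^ (2 * k + 7) ∣ Nat.card (centralizer ({z} : Set (zorn K).Aut)) := by
  have h2 := quad_two_ne_zero_of_odd (MG.odd_of_one hK)
  obtain ⟨H, _, _, _, N, hN, h4, hsq, ρ, hρ, hr⟩ :=
    exists_centralizer_hom (A := zorn K) h2 (by simp) hz hz1
  have h1 := (S2W.fact_even (m := 1) h2 hN h4 _).1 hsq
  obtain ⟨n, hn⟩ := MG.sq_sub_one_of_one hK
  have h3 : padicValNat 2 (Nat.card K ^ 2 - 1) = k + 3 := by
    rw [Nat.card_eq_fintype_card, hn, Nat.add_sub_cancel,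
      padicValNat.mul (by positivity) (by omega), padicValNat.prime_pow,
      padicValNat.eq_zero_of_not_dvd (by omega)]
  have h5 : padicValNat 2 (1 + 1).factorial = 1 := by
    simp [Nat.factorial]
  rw [h3, h5] at h1
  have h6 : Nat.card (centralizer ({z} : Set (zorn K).Aut)) = Nat.card (dickson hN).ker := by
    rw [← hr]
    exact Nat.card_congr (MonoidHom.ofInjective hρ).toEquiv
  have h7 : (dickson hN).ker.index = 2 := by
    rw [index_ker, MonoidHom.range_eq_top.2 (dickson_surjective hN (by omega)), card_top,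
      Nat.card_eq_fintype_card]
    rfl
  have h8 := (dickson hN).ker.card_mul_index
  rw [h7] at h8
  have h0 : Nat.card (OG N) ≠ 0 := fun e => by
    rw [e] at h1
    simp at h1
  intro hd
  have h9 : 2 ^ (2 * k + 8) ∣ Nat.card (OG N) := by
    rw [← h8, ← h6, pow_succ]
    exact Nat.mul_dvd_mul_right hd 2
  have := (Nat.prime_two.pow_dvd_iff_le_factorization h0).1 h9
  omega

theorem exists_dat [Fintype K] {m : ℕ} (hK : Fintype.card K = 2 ^ (k + 2) * (2 * m + 1) + 1) :
    ∃ ι : GS k →* (zorn K).Aut, Dat ι := by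
  have h2 := quad_two_ne_zero_of_odd (MG.odd_of_one hK)
  obtain ⟨om, ho, hneg⟩ := MG.exists_unit hK
  have hom : om ^ 2 ^ (k + 1 + 1) = 1 := by rw [← ho, pow_orderOf_eq_one]
  have hrel : GS.Rel k (dg om 1) (dg 1 om) (sg K) (uu K) :=
    ⟨by rw [dg_pow, hom, one_pow, dg_one], by rw [dg_mul, dg_mul, mul_one, one_mul],
      sg_sq, uu_sq, sg_uu, sg_dg _ _, by rw [uu_dg, dg_inv]⟩
  obtain ⟨ι, ha, hb, ht, hu, -⟩ := hrel.exists_hom
  let E : AddChar (R k) Kˣ := AddChar.zmodChar _ hom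
  have hE1 : ∀ x, E x = 1 → x = 0 := fun x hx => by
    rw [AddChar.zmodChar_apply, ← orderOf_dvd_iff_pow_eq_one, ho] at hx
    exact (ZMod.val_eq_zero x).1 (Nat.eq_zero_of_dvd_of_lt hx (ZMod.val_lt x))
  have hEh : E (hf k) = -1 := by
    rw [← hneg, ← AddChar.zmodChar_apply' hom]
    congr 1
    simp [hh]
  have hEm : E (mm k) * E (mm k) = -1 := by
    rw [← AddChar.map_add_eq_mul, ← two_mul, two_mm, hEh]
  have io : ∀ x y, ι (GS.o x y) = dg (E x) (E y) := fun x y => by
    have e : (GS.o x y : GS k) = GS.o 1 0 ^ x.val * GS.o 0 1 ^ y.val := by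
      simp [GS.o_pow]
    rw [e, map_mul, map_pow, map_pow, ha, hb, dg_pow, dg_pow, dg_mul, one_pow, one_pow, mul_one,
      one_mul, AddChar.zmodChar_apply, AddChar.zmodChar_apply]
  have it : ∀ x y, ι (GS.t x y) = dg (E x) (E y) * sg K := fun x y => by
    rw [← io, ← ht, ← map_mul]; simp
  have iu : ∀ x y, ι (GS.u x y) = dg (E x) (E y) * uu K := fun x y => by
    rw [← io, ← hu, ← map_mul]; simp
  have iv : ∀ x y, ι (GS.v x y) = dg (E x) (E y) * sg K * uu K := fun x y => by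
    rw [← it, ← hu, ← map_mul]; simp
  have iz : ι (GS.z k) = dg (-1) (-1) := by rw [GS.z, io, hEh]
  have hne : (-1 : K) ≠ 1 := fun e => h2 (by linear_combination -e)
  have hz1 : ι (GS.z k) ≠ 1 := fun e => by
    have := congrFun (congrArg (fun g : (zorn K).Aut => g.1 ![0, 1, 0, 0, 0, 0, 0, 0])
      (iz.symm.trans e)) 1
    simp [dg_apply] at this
    exact hne this
  have hEK : ∀ x y, ((E x : K) * E y) = E (x + y) := fun x y => by
    rw [AddChar.map_add_eq_mul, Units.val_mul]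
  refine ⟨ι, hz1, card_cent hK (by rw [← map_mul, GS.z_sq, map_one]) hz1, ?_, ⟨cy K, ?_, ?_⟩,
    ⟨rY (E (mm k) : K) * rX ((E (mm k) : K) / 2), ?_⟩,
    ⟨rB (E (mm k) : K) * rA ((E (mm k) : K) / 2), ?_⟩⟩
  · intro g hg x hx y hy
    have fx : ∀ w, (ι (GS.z k)).1 w = w → (ι x).1 w = w := fun w hw => by
      rw [iz, dg_apply] at hw
      have aux : ∀ a : K, -a = a → a = 0 := fun a ha =>
        (mul_eq_zero.1 (show 2 * a = 0 by linear_combination -ha)).resolve_left h2
      have w1 : w 1 = 0 := aux _ (by simpa using congrFun hw 1)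
      have w2 : w 2 = 0 := aux _ (by simpa using congrFun hw 2)
      have w4 : w 4 = 0 := aux _ (by simpa using congrFun hw 4)
      have w5 : w 5 = 0 := aux _ (by simpa using congrFun hw 5)
      rcases x with ⟨a, b⟩ | ⟨a, b⟩ | ⟨a, b⟩ | ⟨a, b⟩
      · rw [io, dg_apply, hEK, GS.o_mem_Q2.1 hx, AddChar.map_zero_eq_one]
        ext j; fin_cases j <;> simp [w1, w2, w4, w5]
      · rw [it, amul, dg_apply, hEK, GS.t_mem_Q2.1 hx, hEh, sg_apply]
        ext j; fin_cases j <;> simp [w1, w2, w4, w5]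
      · exact absurd hx GS.u_mem_Q2
      · exact absurd hx GS.v_mem_Q2
    let w : Fin 8 → K := ![1, 0, 0, 0, 0, 0, 1, 0]
    have hw : (ι (GS.z k)).1 w = w := by
      rw [iz, dg_apply]
      ext j; fin_cases j <;> simp [w]
    have hc : ι (GS.z k) * g⁻¹ = g⁻¹ * ι (GS.z k) := by
      conv_rhs => rw [← hg]
      group
    have h3 : (ι y).1 w = w := by
      rw [← hy, amul, amul, fx _ (by rw [← amul, hc, amul, hw]), ← amul, mul_inv_cancel, aone]
    rcases y with ⟨a, b⟩ | ⟨a, b⟩ | ⟨a, b⟩ | ⟨a, b⟩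
    · rw [io, dg_apply, hEK] at h3
      exact hE1 _ (Units.ext (by simpa [w] using congrFun h3 6))
    · rw [it, amul, dg_apply, hEK, sg_apply] at h3
      have h4 : -(E (a + b) : K) = 1 := by simpa [w] using congrFun h3 6
      have h5 : E (a + b + hf k) = 1 := Units.ext (by rw [← hEK, hEh, Units.val_one, ← h4]; simp)
      have h6 := hE1 _ h5
      change a + b = hf k
      linear_combination h6 - two_hf
    · rw [iu, amul, dg_apply, uu_apply] at h3
      simpa [w] using congrFun h3 0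
    · rw [iv, amul, amul, dg_apply, sg_apply, uu_apply] at h3
      simpa [w] using congrFun h3 0
  · intro x y
    rw [io, io, cy_dg, mul_inv_cancel_right, ← AddChar.map_add_eq_mul, ← AddChar.map_neg_eq_inv,
      neg_add']
  · rw [hu, cy_uu, mul_inv_cancel_right]
  · rw [GS.y1, GS.x1, io, iv, hEh, AddChar.map_zero_eq_one, g1_spec h2 hEm, mul_inv_cancel_right]
  · rw [GS.y2, GS.x2, io, it, hEh, AddChar.map_zero_eq_one, AddChar.map_neg_eq_inv, g2_spec h2 hEm,
      mul_inv_cancel_right]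

end Zorn

end Oct

theorem exists_gd (k : ℕ) : ∃ (K : Type) (_ : Field K) (_ : Fintype K), Odd (Fintype.card K) ∧
    ∃ (T : Sylow 2 (Cfsg.Lie.G2 K)) (ι : GS k →* Cfsg.Lie.G2 K),
      GD (groupFusionSystem (T : Subgroup (Cfsg.Lie.G2 K))) ι := by
  obtain ⟨K, _, _, m, hK⟩ := MG.exists_field_one (e := k + 2) (by omega)
  obtain ⟨ι, hι⟩ := Oct.exists_dat hK
  have h := hι.map (Cfsg.Agent.Oct.g2Equiv K).symm
  obtain ⟨T, hT⟩ := h.sylow
  exact ⟨K, inferInstance, inferInstance, MG.odd_of_one hK, T, _, h.gd hT⟩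

end Cfsg.Agent.WQ
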