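import Mathlib
import Cfsg.Agent.WQ.CaseA
import Cfsg.Agent.WQ.B3
import Cfsg.Agent.WQ.B4
import Cfsg.Agent.WQ.G2
import Cfsg.Agent.WQ.Oct
import Cfsg.Agent.Fus.InvSub
import Cfsg.Agent.Fus.PIndex

/-!
Simple fusion systems with a weakly closed generalized quaternion subgroup: the conclusion.
-/

set_option autoImplicit false

namespace Cfsg.Agent.WQ

open Subgroup Cfsg.FusionSystem Cfsg.Agent.Fus Cfsg.Agent.Inv.Fz Cfsg.Agent.G2T Cfsg.Agent.Fus.MG

variable {Ω : Type*} [Group Ω] {S K : Subgroup Ω} {F : FusionSystem S} {k : ℕ}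
  {r s : R k → Ω} {z : Ω}

theorem GD.exists_gf [Finite S] {ι : GS k →* Ω} (h : GD F ι) :
    ∃ (E : FusionSystem (⊤ : Subgroup (GS k))) (θ : Ω → GS k) (η : GS k → Ω),
      F.IsIsoVia E θ η ∧ GF E := by
  have hS : ∀ x, x ∈ S ↔ ∃ i, x = ι i := fun x => by
    rw [← h.range]; exact exists_congr fun _ => eq_comm
  obtain ⟨θ, η, E, hE, hθ⟩ := exists_coord (S' := ⊤) F (a := ι) (a' := id) h.inj
    Function.injective_id hS (fun x => ⟨fun _ => ⟨x, rfl⟩, fun _ => trivial⟩)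
    fun i j => ⟨i * j, (map_mul ι i j).symm, rfl⟩
  have hη : ∀ x, η x = ι x := fun x => by
    rw [← hE.left (ι x) ((hS _).2 ⟨x, rfl⟩), hθ, id]
  have hp : IsPGroup 2 S := hE.symm.isPGroup (GS.isPGroup.to_subgroup ⊤)
  refine ⟨E, θ, η, hE, hE.isSaturated h.sat hp, fun P f hf hz e x hx hQ => ?_, ?_, ?_⟩
  · obtain ⟨y, hy, e'⟩ := h.sc _ _ (hE.pull hf) (hη _ ▸ mem_img_of_mem hz)
      (by rw [hθ, id, e, hη]) x hQ (hη _ ▸ mem_img_of_mem hx)
    rw [hθ, id, hη] at e'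
    exact h.inj e' ▸ hy
  · obtain ⟨f, hf, h1, h2⟩ := h.al
    refine ⟨_, (hE.push hf).mono fun x hx => ?_, fun x y => ?_, ?_⟩
    · have := mem_img_of_mem (f := θ) (mem_map_of_mem ι hx)
      rwa [hθ] at this
    · rw [hη, h1, hθ, id]
    · rw [hη, h2, hθ, id]
  · rw [← hE.img_focal, h.foc, hE.img_top]

theorem GD.realized [Finite S] (hk : 1 ≤ k) {ι : GS k →* Ω} (h : GD F ι) :
    ∃ (L : Type) (_ : Field L) (_ : Fintype L), Odd (Fintype.card L) ∧
      RealizedIn F (Cfsg.Lie.G2 L) := by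
  obtain ⟨L, _, _, ho, T, ι', h'⟩ := exists_gd k
  obtain ⟨E, θ, η, hE, hG⟩ := h.exists_gf
  obtain ⟨E', θ', η', hE', hG'⟩ := h'.exists_gf
  obtain rfl := le_antisymm' (hG.le hk hG') (hG'.le hk hG)
  exact ⟨L, _, _, ho, (realizedIn_of (realizes_of_eq hE'.symm rfl |> fun h => ⟨_, h⟩)).of_iso hE⟩

/-- The conclusion. -/
def Concl (F : FusionSystem S) : Prop :=
  (∃ (L : Type) (_ : Field L) (_ : Fintype L), Odd (Fintype.card L) ∧
    (RealizedIn F (Matrix.ProjectiveSpecialLinearGroup (Fin 3) L) ∨ RealizedIn F (Cfsg.Lie.G2 L))) ∨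
  ∃ D : Subgroup Ω, D ≤ S ∧ IsQuasiDihedral D ∧ F.StronglyClosed D

theorem Hy.concl [Finite Ω] (H : Hy F K k r s z) (hF : F.IsSimple 2) : Concl F := by
  have hzS := H.le H.z_mem
  have hZ : ¬ F.IsCentral (zpowers z) := fun hc => by
    rcases hF.2.2 _ _ (hc.isNormal.inner_isNormalIn H.sat H.pg) with h | ⟨h, -⟩
    · exact H.z_ne_one (zpowers_eq_bot.1 h)
    · exact H.mc.s_notMem_zpowers 0 _ (H.hz ▸ h.ge (H.le (H.mc.s_mem 0)))
  have hI : F ≠ innerFusionSystem S := fun e => hZ (by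
    rw [e, inner_eq_ofSubgroup]
    exact isCentral_ofSubgroup (zpowers_le.2 hzS) fun x hx =>
      centralizerIn_le_centralizer (mem_CS.2 ⟨hx, H.z_comm hx⟩ : x ∈ CS S z))
  have hN : ∀ Q, F.IsNormal Q → Q = ⊥ := fun Q hQ => by
    refine (hF.2.2 _ _ (hQ.inner_isNormalIn H.sat H.pg)).resolve_right ?_
    rintro ⟨rfl, h⟩
    exact hI (hom_eq_inner_iff.1 fun P => (h P).symm)
  have hfoc : F.focalSubgroup = S := by
    rcases hF.2.2 _ _ ((H.sat.isPResidual_pRes H.pg).isNormalIn H.sat H.pg) with h | ⟨h, -⟩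
    · exact absurd (H.sat.eq_inner_of_hyp_eq_bot H.pg h) hI
    · exact le_antisymm F.focal_le (h.ge.trans (F.hyperfocal_le_focal 2))
  obtain ⟨t, ht, hne⟩ : ∃ t, Cj F z t ∧ t ≠ z := by
    by_contra hc
    push Not at hc
    refine hZ ((H.sat.isCentral_iff_fix H.pg).2 ⟨zpowers_le.2 hzS, fun P f hf x hx hz => ?_⟩)
    obtain ⟨n, rfl⟩ := mem_powers_iff_mem_zpowers.2 hz
    obtain ⟨m, rfl | rfl⟩ := Nat.even_or_odd' n
    · simp only [pow_mul, sq, H.z_sq, one_pow, hf.map_one]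
    · simp only [pow_succ, pow_mul, pow_zero, one_mul, H.z_sq, one_pow] at hx ⊢
      exact hc _ (H.cj_z.map hf hx)
  by_cases hA : ∀ t, Pr F z t → TI r s t
  · exact Or.inr (H.caseA hA ht hne)
  push Not at hA
  obtain ⟨t, ht, hT⟩ := hA
  obtain ⟨W, u, w, B, -⟩ := (H.pr_cases ht).resolve_left hT
  rcases B.concl hfoc fun g hg a b h => B.act_pm hfoc hg h with rfl | ⟨ι, h⟩
  · obtain ⟨L, _, _, m, hL⟩ := exists_field_one (e := k + 1 + 1) (by omega)
    obtain ⟨T, u', w', H'⟩ := psl3_wr B.wr.ht hL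
    refine Or.inl ⟨L, _, _, odd_of_one hL, Or.inl (realizedIn_of (wr_realizes B.wr H' H.sat
      (by_contra fun h => wr_central B.wr H.sat h (hN _ F.isCentral_center.isNormal))
      (by_contra fun h => ?_)
      (pResidual_eq_top_of_perfect (Cl.psl_commutator_eq_top (Or.inl (by simp))))))⟩
    have := hN _ (wr_normal B.wr H.sat h).1 ▸ B.wr.u_mem_base 1 0
    exact one_ne_zero' (B.wr.u_eq_one.1 (mem_bot.1 this)).1
  · obtain ⟨L, _, _, ho, h⟩ := h.realized H.one_le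
    exact Or.inl ⟨L, _, _, ho, Or.inr h⟩

end Cfsg.Agent.WQ
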